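import Mathlib

/-!
An automorphism of a finite field: independence of its powers, fixed vectors and norms.
-/

set_option autoImplicit false
set_option linter.unusedSectionVars false
set_option linter.style.haveILetI false

namespace Cfsg.Agent.FFSL2

variable {E : Type*} [Field E] {U : Type*} [AddCommGroup U] [Module E U]

/-- Vector form of the independence of distinct characters. -/
theorem eq_zero_of_sum_smul {ι : Type*} [DecidableEq ι] (τ : ι → E →+* E) :
    ∀ (s : Finset ι) (v : ι → U), Set.InjOn τ s →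
      (∀ a : E, ∑ i ∈ s, τ i a • v i = 0) → ∀ i ∈ s, v i = 0 := by
  intro s
  induction s using Finset.induction_on with
  | empty => intro v _ _ i hi; exact absurd hi (Finset.notMem_empty i)
  | @insert j s hj ih =>
    intro v hinj hsum
    have hs : ∀ i ∈ s, v i = 0 := by
      intro i hi
      obtain ⟨b, hb⟩ : ∃ b, τ i b ≠ τ j b := by
        by_contra! h
        exact hj (hinj (by simp [hi]) (by simp) (RingHom.ext h) ▸ hi)
      have hw := ih (fun k => (τ k b - τ j b) • v k) (hinj.mono (by simp)) (fun a => by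
        have h1 := hsum (a * b)
        have h2 := hsum a
        rw [Finset.sum_insert hj] at h1 h2
        simp only [map_mul, mul_smul] at h1
        have h3 : ∀ k, τ k a • (τ k b - τ j b) • v k
            = τ k a • τ k b • v k - τ j b • τ k a • v k := fun k => by
          rw [sub_smul, smul_sub, smul_comm (τ k a) (τ j b)]
        simp only [h3, Finset.sum_sub_distrib, ← Finset.smul_sum]
        rw [eq_neg_of_add_eq_zero_right h1, eq_neg_of_add_eq_zero_right h2, smul_neg,
          smul_comm (τ j b) (τ j a)]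
        abel) i hi
      exact (smul_eq_zero.1 hw).resolve_left (sub_ne_zero.2 hb)
    intro i hi
    rcases Finset.mem_insert.1 hi with rfl | h
    · have := hsum 1
      rwa [Finset.sum_insert hj, Finset.sum_eq_zero (fun k hk => by rw [hs k hk, smul_zero]),
        add_zero, map_one, one_smul] at this
    · exact hs i h

variable (σ : RingAut E)

theorem pow_injOn_order : Set.InjOn (fun i : ℕ => ((σ ^ i : RingAut E) : E →+* E))
    (Finset.range (orderOf σ)) := by
  intro i hi j hj h
  simp only [Finset.coe_range, Set.mem_Iio] at hi hj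
  refine pow_injOn_Iio_orderOf (by simpa using hi) (by simpa using hj) ?_
  exact RingEquiv.ext fun x => RingHom.congr_fun h x

theorem aut_pow_apply_succ (i : ℕ) (a : E) : (σ ^ (i + 1) : RingAut E) a = σ ((σ ^ i : RingAut E) a) := by
  rw [pow_succ']
  rfl

/-- A semilinear map of the order of its automorphism fixes a nonzero vector. -/
theorem exists_fixed [Finite E] (y : U → U) (hadd : ∀ u w, y (u + w) = y u + y w)
    (hy : ∀ (a : E) (u : U), y (a • u) = σ a • y u) {S : Set U} (hS : ∀ u ∈ S, ∀ a : E, a • u ∈ S)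
    (hn : ∀ u ∈ S, y^[orderOf σ] u = u) {u₀ : U} (hu₀ : u₀ ∈ S) (h0 : u₀ ≠ 0) :
    ∃ (a : E) (u : U), u = ∑ i ∈ Finset.range (orderOf σ), y^[i] (a • u₀) ∧ u ≠ 0 ∧ y u = u := by
  classical
  have hit : ∀ (i : ℕ) (a : E) (u : U), y^[i] (a • u) = (σ ^ i : RingAut E) a • y^[i] u := by
    intro i a u
    induction i with
    | zero => simp
    | succ i ih => rw [Function.iterate_succ_apply', ih, hy, Function.iterate_succ_apply',
        aut_pow_apply_succ]
  haveI : Finite (RingAut E) := Finite.of_injective (fun f : RingAut E => (f : E → E)) DFunLike.coe_injective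
  have hpos : 0 < orderOf σ := orderOf_pos σ
  obtain ⟨a, ha⟩ : ∃ a : E, ∑ i ∈ Finset.range (orderOf σ), y^[i] (a • u₀) ≠ 0 := by
    by_contra! h
    refine h0 ?_
    have := eq_zero_of_sum_smul (fun i : ℕ => ((σ ^ i : RingAut E) : E →+* E)) _
      (fun i => y^[i] u₀) (pow_injOn_order σ) (fun a => by
        have h' := h a
        simp only [hit] at h'
        exact h') 0
      (Finset.mem_range.2 hpos)
    simpa using this
  refine ⟨a, _, rfl, ha, ?_⟩
  have key : y (∑ i ∈ Finset.range (orderOf σ), y^[i] (a • u₀)) =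
      ∑ i ∈ Finset.range (orderOf σ), y^[i + 1] (a • u₀) := by
    let Y : U →+ U := AddMonoidHom.mk' y hadd
    show Y _ = _
    rw [map_sum]
    exact Finset.sum_congr rfl fun i _ => (Function.iterate_succ_apply' y i _).symm
  rw [key]
  have h1 := Finset.sum_range_succ (fun i => y^[i] (a • u₀)) (orderOf σ)
  rw [Finset.sum_range_succ', hn _ (hS _ hu₀ a)] at h1
  simpa using h1

section Norm

variable [Finite E]

/-- The product of the images under the powers of `σ`. -/
noncomputable def autNorm (a : E) : E := ∏ i ∈ Finset.range (orderOf σ), (σ ^ i : RingAut E) a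

theorem autNorm_mul (a b : E) : autNorm σ (a * b) = autNorm σ a * autNorm σ b := by
  simp [autNorm, Finset.prod_mul_distrib]

theorem aut_autNorm (a : E) : σ (autNorm σ a) = autNorm σ a := by
  simp only [autNorm, map_prod, ← aut_pow_apply_succ]
  rcases Nat.eq_zero_or_pos (orderOf σ) with h | h
  · simp [h]
  have h1 := Finset.prod_range_succ (fun i => (σ ^ i : RingAut E) a) (orderOf σ)
  rw [Finset.prod_range_succ', pow_orderOf_eq_one, pow_zero] at h1
  by_cases ha : a = 0
  · subst ha
    simp [map_zero]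
  exact mul_right_cancel₀ (show (1 : RingAut E) a ≠ 0 from ha) h1

/-- Hilbert 90. -/
theorem exists_eq_mul_aut {e : E} (he : autNorm σ e = 1) : ∃ g : E, g ≠ 0 ∧ g = e * σ g := by
  have hit : ∀ (i : ℕ) (g : E), (fun g => e * σ g)^[i] g =
      (∏ k ∈ Finset.range i, (σ ^ k : RingAut E) e) * (σ ^ i : RingAut E) g := by
    intro i g
    induction i with
    | zero => simp
    | succ i ih =>
      rw [Function.iterate_succ_apply', ih, Finset.prod_range_succ', aut_pow_apply_succ, pow_zero]
      simp only [map_mul, map_prod, ← aut_pow_apply_succ]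
      rw [show (1 : RingAut E) e = e from rfl]
      ring
  obtain ⟨_, g, -, hg, hg'⟩ := exists_fixed (U := E) σ (fun g => e * σ g)
    (fun u w => by simp [mul_add]) (fun a u => by simp [smul_eq_mul, mul_left_comm]) (S := Set.univ)
    (fun _ _ _ => trivial) (fun g _ => by
      rw [hit, ← autNorm, he, pow_orderOf_eq_one, one_mul]; rfl)
    (u₀ := 1) trivial one_ne_zero
  exact ⟨g, hg, hg'.symm⟩

/-- The norm maps onto the fixed field. -/
theorem exists_autNorm_eq {c : E} (hc : σ c = c) (hc0 : c ≠ 0) :
    ∃ h : E, h ≠ 0 ∧ autNorm σ h = c := by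
  classical
  let N : Eˣ →* Eˣ := Units.map
    { toFun := autNorm σ, map_one' := by simp [autNorm], map_mul' := autNorm_mul σ }
  let τ : Eˣ →* Eˣ := Units.map (σ : E →+* E).toMonoidHom
  let d : Eˣ →* Eˣ := MonoidHom.id _ / τ
  have hN : ∀ u : Eˣ, (N u : E) = autNorm σ (u : E) := fun _ => rfl
  have hd : ∀ u : Eˣ, d u = u / τ u := fun _ => rfl
  have hτ : ∀ u : Eˣ, (τ u : E) = σ (u : E) := fun _ => rfl
  have h1 : N.range ≤ d.ker := by
    rintro _ ⟨u, rfl⟩
    rw [MonoidHom.mem_ker, hd, div_eq_one]
    ext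
    rw [hτ, hN, aut_autNorm]
  have h2 : N.ker ≤ d.range := by
    intro u hu
    obtain ⟨g, hg0, hg⟩ := exists_eq_mul_aut σ (e := (u : E))
      (by rw [← hN, (MonoidHom.mem_ker.1 hu)]; rfl)
    refine ⟨Units.mk0 g hg0, ?_⟩
    rw [hd, div_eq_iff_eq_mul]
    ext
    rw [Units.val_mul, hτ]
    exact hg
  have cN := Subgroup.card_eq_card_quotient_mul_card_subgroup N.ker
  rw [Nat.card_congr (QuotientGroup.quotientKerEquivRange N).toEquiv] at cN
  have cd := Subgroup.card_eq_card_quotient_mul_card_subgroup d.ker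
  rw [Nat.card_congr (QuotientGroup.quotientKerEquivRange d).toEquiv] at cd
  have hle : Nat.card ↥d.ker ≤ Nat.card ↥N.range := by
    refine Nat.le_of_mul_le_mul_left ?_ (Nat.card_pos (α := ↥d.range))
    calc Nat.card ↥d.range * Nat.card ↥d.ker = Nat.card Eˣ := cd.symm
      _ = Nat.card ↥N.range * Nat.card ↥N.ker := cN
      _ ≤ Nat.card ↥N.range * Nat.card ↥d.range :=
          Nat.mul_le_mul_left _ (Subgroup.card_le_of_le h2)
      _ = _ := mul_comm _ _
  have he := Subgroup.eq_of_le_of_card_ge h1 hle
  obtain ⟨h, hh⟩ : Units.mk0 c hc0 ∈ N.range := by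
    rw [he, MonoidHom.mem_ker, hd, div_eq_one]
    ext
    rw [hτ]
    exact hc.symm
  exact ⟨h, h.ne_zero, by rw [← hN, hh]; rfl⟩

end Norm

end Cfsg.Agent.FFSL2
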