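import Cfsg.Agent.Lib.Thompson.FFSL2.Vanish

/-!
Finite Jordan systems of endomorphisms are commutative.
-/

set_option autoImplicit false
set_option linter.unusedSectionVars false
set_option linter.style.haveILetI false
set_option maxHeartbeats 1000000

namespace Cfsg.Agent.FFSL2

open Polynomial

variable {U : Type*} [AddCommGroup U] [Finite U] [Nontrivial U] {p : ℕ} [Fact p.Prime]
  (J : JSys (AddMonoid.End U) p) {E : Type*} [Field E] [Fintype E]
  (ι : E →+* AddMonoid.End U)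

instance instFiniteAddEnd : Finite (AddMonoid.End U) :=
  Finite.of_injective (fun f : AddMonoid.End U => (f : U → U)) DFunLike.coe_injective

instance instNontrivialAddEnd : Nontrivial (AddMonoid.End U) := by
  obtain ⟨u, hu⟩ := exists_ne (0 : U)
  exact ⟨⟨1, 0, fun h => hu (congrArg (fun f : AddMonoid.End U => f u) h)⟩⟩

theorem eq_of_apply {z : AddMonoid.End U} {f : E} (hι : ∀ f, ι f ∈ J.M) (hz : z ∈ J.M) {u : U}
    (hu : u ≠ 0) (h : z u = ι f u) : z = ι f := by
  by_contra hne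
  obtain ⟨q, hq⟩ := J.isUnit _ (sub_mem hz (hι f)) (sub_ne_zero.2 hne)
  refine hu ?_
  have h1 : (z - ι f) u = 0 := by
    show z u - ι f u = 0
    rw [h, sub_self]
  rw [← hq] at h1
  calc u = ((q⁻¹).val * q.val : AddMonoid.End U) u := by rw [Units.inv_mul]; rfl
    _ = 0 := by
      show (q⁻¹).val (q.val u) = 0
      rw [h1, map_zero]

theorem z₁_eq_zero_of_apply (hι : ∀ f, ι f ∈ J.M) {σ : RingAut E} (h1 : σ ≠ 1) (h2 : σ ≠ σ.symm)
    {z₁ z₂ : AddMonoid.End U} (c₁ : IsComp ι σ z₁) (c₂ : IsComp ι σ.symm z₂)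
    (hz : z₁ + z₂ ∈ J.M) {u : U} (hu : u ≠ 0) {f : E} (h : z₁ u + z₂ u = ι f u) : z₁ = 0 :=
  comp_eq_zero_of_sum ι h1 h2 c₁ c₂ (eq_of_apply J ι hι hz hu h)

/-- `g z₁ + σ⁻¹(g) z₂` stays in the system. -/
theorem scale_mem (hι : ∀ f, ι f ∈ J.M) {σ : RingAut E} {m : ℕ} (hn : orderOf σ = 2 * m + 1)
    {z₁ z₂ : AddMonoid.End U} (c₁ : IsComp ι σ z₁) (c₂ : IsComp ι σ.symm z₂)
    (hz : z₁ + z₂ ∈ J.M) (g : E) : ι g * z₁ + ι (σ.symm g) * z₂ ∈ J.M := by
  have hinj : Function.Injective ι := ι.injective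
  by_cases hp : p = 2
  · have h2 : (2 : E) = 0 := hinj (by
      rw [map_zero, map_ofNat]
      have := J.char_eq
      rw [hp] at this
      exact_mod_cast this)
    obtain ⟨f, rfl⟩ : ∃ f, f * σ f = g := by
      refine (Finite.injective_iff_surjective (f := fun f : E => f * σ f)).1 ?_ g
      intro a b hab
      simp only at hab
      by_cases ha : a = 0
      · subst ha
        rw [zero_mul] at hab
        rcases mul_eq_zero.1 hab.symm with h | h
        · exact h.symm
        · exact ((map_eq_zero_iff _ σ.injective).1 h).symm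
      have hb : b ≠ 0 := by
        rintro rfl
        rw [zero_mul] at hab
        rcases mul_eq_zero.1 hab with h | h
        · exact ha h
        · exact ha ((map_eq_zero_iff _ σ.injective).1 h)
      have hσb : σ b ≠ 0 := by simpa using hb
      have hq : a / b * σ (a / b) = 1 := by
        rw [map_div₀, div_mul_div_comm, hab, div_self (mul_ne_zero hb hσb)]
      have hq0 : a / b ≠ 0 := div_ne_zero ha hb
      have hfix : σ (a / b) = a / b := by
        refine fixed_of_sq_fixed hn ?_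
        have e1 : σ (a / b) = (a / b)⁻¹ := eq_inv_of_mul_eq_one_right hq
        rw [e1, map_inv₀, e1, inv_inv]
      rw [hfix] at hq
      have h3 : (a / b - 1) ^ 2 = 0 := by linear_combination hq - (a / b - 1) * h2
      exact (div_eq_one_iff_eq hb).1 (sub_eq_zero.1 (eq_zero_of_pow_eq_zero h3))
    have h := J.mul_mul_mem _ (hι f) _ hz
    rw [mul_add, add_mul, mul_assoc (ι f) z₁, c₁, mul_assoc (ι f) z₂, c₂, ← mul_assoc, ← mul_assoc,
      ← map_mul, ← map_mul] at h
    rwa [map_mul σ.symm, RingEquiv.symm_apply_apply, mul_comm (σ.symm f)]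
  · obtain ⟨f, rfl⟩ : ∃ f, f + σ f = g := by
      refine (Finite.injective_iff_surjective (f := fun f : E => f + σ f)).1 ?_ g
      intro a b hab
      simp only at hab
      have e1 : σ (a - b) = -(a - b) := by
        rw [map_sub]
        linear_combination hab
      have hfix : σ (a - b) = a - b := fixed_of_sq_fixed hn (by rw [e1, map_neg, e1, neg_neg])
      rw [hfix, eq_neg_iff_add_eq_zero] at e1
      have e2 : ι (a - b) = 0 := J.two_cancel hp (by rw [← map_add, e1, map_zero])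
      rw [← map_zero ι] at e2
      exact sub_eq_zero.1 (hinj e2)
    have h := J.polar (hι f) J.one_mem hz
    rw [mul_one, one_mul, mul_add, add_mul, c₁, c₂, add_add_add_comm, ← add_mul, ← add_mul,
      ← map_add, ← map_add] at h
    rwa [map_add σ.symm, RingEquiv.symm_apply_apply, add_comm (σ.symm f)]

/-- The case in which the quadratic has a root in the subfield. -/
theorem vanish_root (hι : ∀ f, ι f ∈ J.M)
    {σ : RingAut E} {m : ℕ} (hn : orderOf σ = 2 * m + 1) (h1 : σ ≠ 1) (h2 : σ ≠ σ.symm)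
    {z₁ z₂ : AddMonoid.End U} (c₁ : IsComp ι σ z₁) (c₂ : IsComp ι σ.symm z₂)
    (hz : z₁ + z₂ ∈ J.M) {c : E} (hc : σ c = c) (hP : z₁ * z₂ = ι c) (hQ : z₂ * z₁ = ι c)
    {r : E} (hrfix : σ r = r) (hr : ι r = z₁ ^ orderOf σ + z₂ ^ orderOf σ)
    (hθθ : z₁ ^ orderOf σ * (ι r - z₁ ^ orderOf σ) = ι (c ^ orderOf σ))
    (hθc : ∀ f : E, z₁ ^ orderOf σ * ι f = ι f * z₁ ^ orderOf σ)
    (hrec : ∀ k, z₁ ^ (k + 2) + z₂ ^ (k + 2) =
      (z₁ + z₂) * (z₁ ^ (k + 1) + z₂ ^ (k + 1)) - ι c * (z₁ ^ k + z₂ ^ k))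
    {ρ : E} (hρ : ρ ^ 2 - r * ρ + c ^ orderOf σ = 0) : z₁ = 0 := by
  classical
  by_contra hz1
  set n := orderOf σ with hndef
  set z := z₁ + z₂ with hzdef
  have hcomm : Commute z₁ z₂ := hP.trans hQ.symm
  set θ : AddMonoid.End U := z₁ ^ n with hθ
  letI : Module E U := Module.compHom U ι
  have hsm : ∀ (a : E) (u : U), a • u = ι a u := fun _ _ => rfl
  have hinj : Function.Injective ι := ι.injective
  -- a nonzero root which is a root of `θ` on some vector
  obtain ⟨ρ₀, hρ₀, hρ₀fix, u₀, hu₀, hθu₀⟩ : ∃ ρ₀ : E, ρ₀ ≠ 0 ∧ σ ρ₀ = ρ₀ ∧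
      ∃ u₀ : U, u₀ ≠ 0 ∧ θ u₀ = ι ρ₀ u₀ := by
    have hfix : σ ρ = ρ := by
      have hs : (σ ρ) ^ 2 - r * σ ρ + c ^ n = 0 := by
        have := congrArg σ hρ
        rwa [map_add, map_sub, map_mul, map_pow, map_pow, hrfix, hc, map_zero] at this
      have hfac : (σ ρ - ρ) * (σ ρ + ρ - r) = 0 := by linear_combination hs - hρ
      rcases mul_eq_zero.1 hfac with h | h
      · exact sub_eq_zero.1 h
      · refine fixed_of_sq_fixed hn ?_
        have e1 : σ ρ = r - ρ := by linear_combination h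
        rw [e1, map_sub, hrfix, e1]
        ring
    have hfix' : σ (r - ρ) = r - ρ := by rw [map_sub, hrfix, hfix]
    have hprod : ∀ u, (θ - ι ρ) ((θ - ι (r - ρ)) u) = 0 := by
      intro u
      have e : (θ - ι ρ) * (θ - ι (r - ρ)) = 0 := by
        have e2 : ι ρ * ι (r - ρ) = ι (c ^ n) := by
          rw [← map_mul]
          congr 1
          linear_combination -hρ
        rw [← hθθ, mul_sub] at e2
        calc (θ - ι ρ) * (θ - ι (r - ρ))
            = θ * θ - θ * ι (r - ρ) - ι ρ * θ + ι ρ * ι (r - ρ) := by noncomm_ring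
          _ = 0 := by rw [e2, ← hθc ρ, map_sub, mul_sub]; abel
      exact congrArg (fun φ : AddMonoid.End U => φ u) e
    -- some root is an eigenvalue
    have hev : (∃ u : U, u ≠ 0 ∧ θ u = ι ρ u) ∨ θ = ι (r - ρ) := by
      by_cases h : ∃ u : U, u ≠ 0 ∧ θ u = ι ρ u
      · exact Or.inl h
      refine Or.inr (sub_eq_zero.1 (AddMonoidHom.ext fun u => ?_))
      by_contra hne
      exact h ⟨_, hne, sub_eq_zero.1 (hprod u)⟩
    obtain ⟨w, hw⟩ := exists_ne (0 : U)
    by_cases hc0 : c = 0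
    · subst hc0
      have hr0 : r ≠ 0 := by
        have hz0 : z ≠ 0 := fun h => hz1 (comp_eq_zero_of_sum ι h1 h2 c₁ c₂ (f := 0)
          (by rw [map_zero]; exact h))
        have hpow : ∀ k, z₁ ^ (k + 1) + z₂ ^ (k + 1) = z ^ (k + 1) := by
          intro k
          induction k with
          | zero => rw [pow_one, pow_one, pow_one]
          | succ k ih => rw [hrec, ih, map_zero, zero_mul, sub_zero, ← pow_succ']
        rintro rfl
        have h0 : z ^ (2 * m + 1) = 0 := by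
          rw [← hpow, ← hn, ← hr, map_zero]
        exact not_isUnit_zero (h0 ▸ (J.isUnit z hz hz0).pow _)
      rw [hn, zero_pow (by omega), add_zero] at hρ
      rcases mul_eq_zero.1 (show ρ * (ρ - r) = 0 by linear_combination hρ) with h | h
      · subst h
        rcases hev with ⟨u, hu, hue⟩ | hθe
        · -- `θ` kills `u`; look at the other root
          by_cases h' : ∃ v : U, v ≠ 0 ∧ θ v = ι r v
          · exact ⟨r, hr0, hrfix, h'⟩
          exfalso
          have hθ0 : θ = 0 := by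
            refine AddMonoidHom.ext fun v => ?_
            by_contra hne
            have e : (θ - ι r) * θ = 0 := by
              have := hθθ
              rw [hn, zero_pow (by omega), map_zero, mul_sub] at this
              rw [sub_mul, ← hθc r]
              rw [← neg_sub, this, neg_zero]
            refine h' ⟨θ v, hne, sub_eq_zero.1 ?_⟩
            exact congrArg (fun φ : AddMonoid.End U => φ v) e
          have h3 : z₁ * ι r = 0 := by
            rw [hr, mul_add, ← pow_succ', pow_succ, ← hθ, hθ0, zero_mul, zero_add, hn, pow_succ',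
              ← mul_assoc, hP, map_zero, zero_mul]
          rw [c₁, hrfix, ← zero_mul z₁, ← map_zero ι] at h3
          exact hz1 (eq_zero_of_left ι h3 hr0)
        · exact ⟨r, hr0, hrfix, w, hw, by rw [hθe, sub_zero]⟩
      · rw [sub_eq_zero] at h
        subst h
        rcases hev with ⟨u, hu, hue⟩ | hθe
        · exact ⟨ρ, hr0, hrfix, u, hu, hue⟩
        · exfalso
          rw [sub_self, map_zero] at hθe
          have h3 : z₁ * ι ρ = 0 := by
            rw [hr, mul_add, ← pow_succ', pow_succ, ← hθ, hθe, zero_mul, zero_add, hn, pow_succ',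
              ← mul_assoc, hP, map_zero, zero_mul]
          rw [c₁, hrfix, ← zero_mul z₁, ← map_zero ι] at h3
          exact hz1 (eq_zero_of_left ι h3 hr0)
    · have hne0 : ρ * (r - ρ) ≠ 0 := by
        rw [show ρ * (r - ρ) = c ^ n by linear_combination -hρ]
        exact pow_ne_zero _ hc0
      rcases hev with ⟨u, hu, hue⟩ | hθe
      · exact ⟨ρ, left_ne_zero_of_mul hne0, hfix, u, hu, hue⟩
      · exact ⟨r - ρ, right_ne_zero_of_mul hne0, hfix', w, hw, by rw [hθe]⟩
  obtain ⟨h, hh0, hN⟩ := exists_autNorm_eq σ hρ₀fix hρ₀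
  let y : U → U := fun u => ι h⁻¹ (z₁ u)
  have hyadd : ∀ u w, y (u + w) = y u + y w := fun u w => by simp only [y, map_add]
  have hysl : ∀ (a : E) (u : U), y (a • u) = σ a • y u := fun a u => by
    show ι h⁻¹ ((z₁ * ι a) u) = (ι (σ a) * ι h⁻¹) (z₁ u)
    rw [c₁, ← map_mul, mul_comm, map_mul]
    rfl
  have hit : ∀ (i : ℕ) (u : U), y^[i] u =
      ι (∏ k ∈ Finset.range i, (σ ^ k : RingAut E) h⁻¹) ((z₁ ^ i) u) := by
    intro i u
    induction i with
    | zero => simp
    | succ i ih =>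
      rw [Function.iterate_succ_apply', ih, Finset.prod_range_succ']
      show (ι h⁻¹ * z₁ * ι (∏ k ∈ Finset.range i, (σ ^ k : RingAut E) h⁻¹)) ((z₁ ^ i) u) = _
      rw [mul_assoc, c₁, ← mul_assoc, ← map_mul, map_prod σ]
      simp only [← aut_pow_apply_succ, pow_zero]
      rw [show (1 : RingAut E) h⁻¹ = h⁻¹ from rfl, mul_comm h⁻¹, pow_succ' z₁]
      rfl
  obtain ⟨_, u, -, hu, hyu⟩ := exists_fixed σ y hyadd hysl (S := {u | θ u = ι ρ₀ u})
    (fun u hu a => by
      show (θ * ι a) u = (ι ρ₀ * ι a) u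
      rw [hθc, ← map_mul, mul_comm, map_mul]
      exact congrArg (ι a) hu)
    (fun u hu => by
      rw [← hndef, hit, ← hθ, hu]
      show (ι (∏ k ∈ Finset.range n, (σ ^ k : RingAut E) h⁻¹) * ι ρ₀) u = u
      rw [← map_mul]
      have : (∏ k ∈ Finset.range n, (σ ^ k : RingAut E) h⁻¹) * ρ₀ = 1 := by
        rw [← hN, autNorm, ← hndef, ← Finset.prod_mul_distrib]
        refine Finset.prod_eq_one fun i _ => ?_
        rw [← map_mul, inv_mul_cancel₀ hh0, map_one]
      rw [this, map_one]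
      rfl) hθu₀ hu₀
  have hz1u : z₁ u = ι h u := by
    conv_rhs => rw [← hyu]
    show z₁ u = (ι h * ι h⁻¹) (z₁ u)
    rw [← map_mul, mul_inv_cancel₀ hh0, map_one]
    rfl
  have hz2u : z₂ u = ι (c * σ.symm h⁻¹) u := by
    have hu' : u = z₁ (ι (σ.symm h⁻¹) u) := by
      show u = (z₁ * ι (σ.symm h⁻¹)) u
      rw [c₁, RingEquiv.apply_symm_apply]
      exact hyu.symm
    conv_lhs => rw [hu']
    show (z₂ * z₁) (ι (σ.symm h⁻¹) u) = _
    rw [hQ, map_mul]
    rfl
  exact hz1 (z₁_eq_zero_of_apply J ι hι h1 h2 c₁ c₂ hz hu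
    (f := h + c * σ.symm h⁻¹) (by rw [hz1u, hz2u, map_add]; rfl))

/-- The case in which the quadratic generates an extension. -/
theorem vanish_noroot (hι : ∀ f, ι f ∈ J.M)
    {σ : RingAut E} {m : ℕ} (hn : orderOf σ = 2 * m + 1) (h1 : σ ≠ 1) (h2 : σ ≠ σ.symm)
    {z₁ z₂ : AddMonoid.End U} (c₁ : IsComp ι σ z₁) (c₂ : IsComp ι σ.symm z₂)
    (hz : z₁ + z₂ ∈ J.M) {c : E} (hc : σ c = c) (hP : z₁ * z₂ = ι c) (hQ : z₂ * z₁ = ι c)
    {r : E} (hrfix : σ r = r) (hr : ι r = z₁ ^ orderOf σ + z₂ ^ orderOf σ)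
    (hθθ : z₁ ^ orderOf σ * (ι r - z₁ ^ orderOf σ) = ι (c ^ orderOf σ))
    (hθc : ∀ f : E, z₁ ^ orderOf σ * ι f = ι f * z₁ ^ orderOf σ)
    (hnr : ∀ ρ : E, ρ ^ 2 - r * ρ + c ^ orderOf σ ≠ 0) : z₁ = 0 := by
  classical
  by_contra hz1
  set n := orderOf σ with hndef
  set z := z₁ + z₂ with hzdef
  have hcomm : Commute z₁ z₂ := hP.trans hQ.symm
  set θ : AddMonoid.End U := z₁ ^ n with hθ
  letI : Module E U := Module.compHom U ι
  have hsm : ∀ (a : E) (u : U), a • u = ι a u := fun _ _ => rfl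
  have hinj : Function.Injective ι := ι.injective
  have hn0 : n ≠ 0 := by omega
  have hc0 : c ≠ 0 := by
    rintro rfl
    exact hnr 0 (by rw [zero_pow hn0]; ring)
  have hθ2 : θ * θ = ι r * θ - ι (c ^ n) := by
    rw [← hθθ, mul_sub, ← hθc r]
    abel
  have hindep : ∀ a b : E, ι a + ι b * θ = 0 → a = 0 ∧ b = 0 := by
    intro a b h
    by_cases hb : b = 0
    · subst hb
      rw [map_zero, zero_mul, add_zero, ← map_zero ι] at h
      exact ⟨hinj h, rfl⟩
    exfalso
    have hθe : θ = ι (-a / b) := by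
      have h' := congrArg (ι b⁻¹ * ·) h
      simp only [mul_add, mul_zero, ← mul_assoc, ← map_mul, inv_mul_cancel₀ hb, map_one,
        one_mul] at h'
      rw [eq_neg_of_add_eq_zero_right h', ← map_neg]
      congr 1
      field_simp
    refine hnr (-a / b) (hinj ?_)
    rw [hθe, ← map_mul, ← map_mul, ← map_sub] at hθ2
    rw [← sub_eq_zero, ← map_sub] at hθ2
    rw [map_zero, ← hθ2]
    congr 1
    ring
  have hmul : ∀ a b a' b' : E, (ι a + ι b * θ) * (ι a' + ι b' * θ) =
      ι (a * a' - b * b' * c ^ n) + ι (a * b' + b * a' + b * b' * r) * θ := by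
    intro a b a' b'
    calc (ι a + ι b * θ) * (ι a' + ι b' * θ)
        = ι a * ι a' + ι a * ι b' * θ + ι b * (θ * ι a') + ι b * (θ * ι b') * θ := by noncomm_ring
      _ = ι a * ι a' + ι a * ι b' * θ + ι b * ι a' * θ + ι b * ι b' * (θ * θ) := by
          rw [hθc, hθc]
          noncomm_ring
      _ = _ := by
          rw [hθ2]
          simp only [map_sub, map_add, map_mul, mul_sub, add_mul, mul_assoc]
          abel
  let F₂ : Subring (AddMonoid.End U) :=
    { carrier := {x | ∃ a b : E, x = ι a + ι b * θ}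
      one_mem' := ⟨1, 0, by simp⟩
      zero_mem' := ⟨0, 0, by simp⟩
      add_mem' := by
        rintro _ _ ⟨a, b, rfl⟩ ⟨a', b', rfl⟩
        exact ⟨a + a', b + b', by rw [map_add, map_add, add_mul]; abel⟩
      neg_mem' := by
        rintro _ ⟨a, b, rfl⟩
        exact ⟨-a, -b, by rw [map_neg, map_neg, neg_mul, neg_add]⟩
      mul_mem' := by
        rintro _ _ ⟨a, b, rfl⟩ ⟨a', b', rfl⟩
        exact ⟨_, _, hmul a b a' b'⟩ }
  letI : CommRing ↥F₂ := { F₂.toRing with
    mul_comm := by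
      rintro ⟨_, a, b, rfl⟩ ⟨_, a', b', rfl⟩
      refine Subtype.ext ?_
      show _ * _ = _ * _
      rw [hmul, hmul]
      congr 3 <;> ring }
  have hmne : ∀ a b : E, ¬(a = 0 ∧ b = 0) → a * (a + b * r) + b * b * c ^ n ≠ 0 := by
    intro a b hab h
    by_cases hb : b = 0
    · subst hb
      exact hab ⟨by simpa using h, rfl⟩
    refine hnr (-a / b) ?_
    field_simp
    linear_combination h
  have hbar : ∀ a b : E, (ι a + ι b * θ) * (ι (a + b * r) + ι (-b) * θ) =
      ι (a * (a + b * r) + b * b * c ^ n) := by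
    intro a b
    rw [hmul, show a * -b + b * (a + b * r) + b * -b * r = 0 by ring, map_zero, zero_mul, add_zero]
    congr 1
    ring
  have hfield : IsField ↥F₂ := by
    haveI : Nontrivial ↥F₂ := ⟨⟨0, 1, fun h => zero_ne_one (congrArg Subtype.val h)⟩⟩
    haveI : NoZeroDivisors ↥F₂ := ⟨fun {x y} h => by
      obtain ⟨_, a, b, rfl⟩ := x
      by_cases hab : a = 0 ∧ b = 0
      · exact Or.inl (Subtype.ext (by simp [hab.1, hab.2]))
      refine Or.inr (Subtype.ext ?_)
      have h' := congrArg Subtype.val h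
      have hb' : (ι (a + b * r) + ι (-b) * θ) * (ι a + ι b * θ) =
          ι (a * (a + b * r) + b * b * c ^ n) := by
        rw [← hbar, hmul, hmul]
        congr 3 <;> ring
      have h'' := congrArg (ι (a * (a + b * r) + b * b * c ^ n)⁻¹ *
        ((ι (a + b * r) + ι (-b) * θ)) * ·) h'
      change _ * ((ι a + ι b * θ) * (y : AddMonoid.End U)) = _ * (0 : AddMonoid.End U) at h''
      rw [mul_zero, ← mul_assoc, mul_assoc _ _ (ι a + ι b * θ), hb', ← map_mul,
        inv_mul_cancel₀ (hmne a b hab), map_one, one_mul] at h''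
      exact h''⟩
    haveI : IsDomain ↥F₂ := NoZeroDivisors.to_isDomain _
    exact Finite.isField_of_domain _
  letI : Field ↥F₂ := hfield.toField
  have hinv : ι c⁻¹ * ι c = 1 := by rw [← map_mul, inv_mul_cancel₀ hc0, map_one]
  have hθz : z₁ * θ = θ * z₁ := by rw [hθ, ← pow_succ', ← pow_succ]
  have hzA : ∀ a b : E, z₁ * (ι a + ι b * θ) = (ι (σ a) + ι (σ b) * θ) * z₁ := by
    intro a b
    rw [mul_add, c₁, ← mul_assoc, c₁, mul_assoc, hθz, add_mul, mul_assoc (ι (σ b))]
  let τ₀ : ↥F₂ → ↥F₂ := fun x => ⟨z₁ * (x : AddMonoid.End U) * z₂ * ι c⁻¹, by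
    obtain ⟨a, b, hx⟩ := x.2
    refine ⟨σ a, σ b, ?_⟩
    rw [hx, hzA, mul_assoc _ z₁ z₂, hP, mul_assoc, ← map_mul, mul_inv_cancel₀ hc0, map_one,
      mul_one]⟩
  have hτ : ∀ a b : E, (τ₀ ⟨_, a, b, rfl⟩ : AddMonoid.End U) = ι (σ a) + ι (σ b) * θ := by
    intro a b
    show z₁ * (ι a + ι b * θ) * z₂ * ι c⁻¹ = _
    rw [hzA, mul_assoc _ z₁ z₂, hP, mul_assoc, ← map_mul, mul_inv_cancel₀ hc0, map_one, mul_one]
  have hτz : ∀ x : ↥F₂, z₁ * (x : AddMonoid.End U) = (τ₀ x : AddMonoid.End U) * z₁ := by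
    rintro ⟨_, a, b, rfl⟩
    rw [hτ]
    exact hzA a b
  let τh : ↥F₂ →+* ↥F₂ :=
    { toFun := τ₀
      map_one' := by
        have h : (1 : ↥F₂) = ⟨_, 1, 0, rfl⟩ := Subtype.ext (by simp)
        refine Subtype.ext ?_
        rw [h, hτ]
        simp
      map_mul' := by
        rintro ⟨_, a, b, rfl⟩ ⟨_, a', b', rfl⟩
        have h : (⟨_, a, b, rfl⟩ : ↥F₂) * ⟨_, a', b', rfl⟩ = ⟨_, _, _, rfl⟩ :=
          Subtype.ext (hmul a b a' b')
        refine Subtype.ext ?_
        rw [h, hτ, Subring.coe_mul, hτ, hτ, hmul]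
        simp only [map_sub, map_add, map_mul, map_pow, hc, hrfix]
      map_zero' := by
        have h : (0 : ↥F₂) = ⟨_, 0, 0, rfl⟩ := Subtype.ext (by simp)
        refine Subtype.ext ?_
        rw [h, hτ]
        simp
      map_add' := by
        rintro ⟨_, a, b, rfl⟩ ⟨_, a', b', rfl⟩
        refine Subtype.ext ?_
        show z₁ * _ * z₂ * _ = z₁ * _ * z₂ * _ + z₁ * _ * z₂ * _
        simp only [mul_add, add_mul, Subring.coe_add] }
  let τ : RingAut ↥F₂ := RingEquiv.ofBijective τh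
    ⟨τh.injective, Finite.injective_iff_surjective.1 τh.injective⟩
  have hτpow : ∀ (i : ℕ) (a b : E), (((τ ^ i : RingAut ↥F₂) ⟨_, a, b, rfl⟩ : ↥F₂) :
      AddMonoid.End U) = ι ((σ ^ i : RingAut E) a) + ι ((σ ^ i : RingAut E) b) * θ := by
    intro i
    induction i with
    | zero => intro a b; rfl
    | succ i ih =>
      intro a b
      rw [aut_pow_apply_succ, aut_pow_apply_succ, aut_pow_apply_succ]
      have h : (τ ^ i : RingAut ↥F₂) ⟨_, a, b, rfl⟩ = ⟨_, _, _, rfl⟩ := Subtype.ext (ih a b)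
      rw [h]
      exact hτ _ _
  have hord : orderOf τ = n := by
    refine (orderOf_eq_iff (Nat.pos_of_ne_zero hn0)).2 ⟨?_, fun i hi hi0 h => ?_⟩
    · refine RingEquiv.ext ?_
      rintro ⟨_, a, b, rfl⟩
      refine Subtype.ext ?_
      rw [hτpow, hndef, pow_orderOf_eq_one]
      rfl
    · refine pow_ne_one_of_lt_orderOf hi0.ne' hi (RingEquiv.ext fun a => ?_)
      have h' := hτpow i a 0
      rw [h] at h'
      change ι a + ι 0 * θ = _ at h'
      simp only [map_zero, zero_mul, add_zero] at h'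
      exact (hinj h').symm
  set θ₂ : ↥F₂ := ⟨θ, 0, 1, by simp⟩ with hθ₂
  have hθ₂e : θ₂ = ⟨_, 0, 1, rfl⟩ := Subtype.ext (by simp [hθ₂])
  have hθfix : τ θ₂ = θ₂ := by
    refine Subtype.ext ?_
    show (τ₀ θ₂ : AddMonoid.End U) = θ
    rw [hθ₂e, hτ]
    simp
  have hθne : θ₂ ≠ 0 := fun h => by
    have h' : ι 0 + ι 1 * θ = 0 := by
      rw [map_zero, map_one, zero_add, one_mul]
      exact congrArg Subtype.val h
    exact one_ne_zero (hindep 0 1 h').2
  obtain ⟨hh, -, hNh⟩ := exists_autNorm_eq τ hθfix hθne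
  obtain ⟨_, a, b, rfl⟩ := hh
  have hh₂ : (⟨_, a, b, rfl⟩ : ↥F₂) = ⟨ι a + ι b * θ, a, b, rfl⟩ := rfl
  set mm : E := a * (a + b * r) + b * b * c ^ n with hmm
  -- the norm of the conjugate
  set hb₂ : ↥F₂ := ⟨ι (a + b * r) + ι (-b) * θ, a + b * r, -b, rfl⟩ with hhb₂
  set θb : ↥F₂ := ⟨ι r - θ, r, -1, by simp [sub_eq_add_neg]⟩ with hθb
  let κ : E →+* ↥F₂ := RingHom.codRestrict ι F₂ fun f => ⟨f, 0, by simp⟩
  have hτκ : ∀ (i : ℕ) (x y : E), (τ ^ i : RingAut ↥F₂) (⟨_, x, y, rfl⟩ : ↥F₂) =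
      κ ((σ ^ i : RingAut E) x) + κ ((σ ^ i : RingAut E) y) * θ₂ := fun i x y =>
    Subtype.ext (hτpow i x y)
  have hNb : autNorm τ hb₂ = θb := by
    rw [autNorm, hord] at hNh ⊢
    set Q : E[X] := (∏ i ∈ Finset.range n,
      (C ((σ ^ i : RingAut E) a) + C ((σ ^ i : RingAut E) b) * X)) - X with hQdef
    set Z : E[X] := X ^ 2 - C r * X + C (c ^ n) with hZ
    have hZm : Z.Monic := by rw [hZ]; monicity!
    have hev : eval₂ κ θ₂ Q = 0 := by
      rw [hQdef, eval₂_sub, eval₂_finsetProd]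
      simp only [eval₂_add, eval₂_mul, eval₂_C, eval₂_X, ← hτκ]
      rw [hNh, sub_self]
    have hZev : ∀ x : ↥F₂, x * x = κ r * x - κ (c ^ n) → eval₂ κ x Z = 0 := by
      intro x hx
      rw [hZ]
      simp only [eval₂_add, eval₂_sub, eval₂_mul, eval₂_C, eval₂_X, eval₂_pow]
      rw [sq, hx]
      ring
    have hθ2' : θ₂ * θ₂ = κ r * θ₂ - κ (c ^ n) := Subtype.ext hθ2
    have hθb' : θb * θb = κ r * θb - κ (c ^ n) := by
      have e : θb = κ r - θ₂ := Subtype.ext rfl
      rw [e]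
      linear_combination hθ2'
    have hrem : Q %ₘ Z = 0 := by
      have hdeg : (Q %ₘ Z).degree ≤ 1 := by
        have h2 : Z.degree = 2 := by rw [hZ]; compute_degree!
        have := degree_modByMonic_lt Q hZm
        rw [h2] at this
        exact Order.le_of_lt_succ this
      rw [eq_X_add_C_of_degree_le_one hdeg]
      have h0 : eval₂ κ θ₂ (Q %ₘ Z) = 0 := by
        have := congrArg (eval₂ κ θ₂) (modByMonic_add_div Q Z)
        rwa [eval₂_add, eval₂_mul, hZev θ₂ hθ2', zero_mul, add_zero, hev] at this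
      rw [eq_X_add_C_of_degree_le_one hdeg, eval₂_add, eval₂_mul, eval₂_C, eval₂_C, eval₂_X,
        add_comm] at h0
      obtain ⟨e1, e2⟩ := hindep _ _ (congrArg Subtype.val h0)
      rw [e1, e2, map_zero, zero_mul, add_zero]
    have hev' : eval₂ κ θb Q = 0 := by
      rw [← modByMonic_add_div Q Z, hrem, zero_add, eval₂_mul, hZev θb hθb', zero_mul]
    rw [hQdef, eval₂_sub, eval₂_finsetProd, eval₂_X, sub_eq_zero] at hev'
    rw [← hev']
    refine Finset.prod_congr rfl fun i _ => ?_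
    rw [hhb₂, hτκ]
    simp only [eval₂_add, eval₂_mul, eval₂_C, eval₂_X]
    have e : θb = κ r - θ₂ := Subtype.ext rfl
    have hri : ∀ i : ℕ, (σ ^ i : RingAut E) r = r := by
      intro i
      induction i with
      | zero => rfl
      | succ i ih => rw [aut_pow_apply_succ, ih, hrfix]
    rw [e, map_add, map_add, map_mul, map_mul, hri, map_neg, map_neg]
    ring
  have hNm : autNorm σ mm = c ^ n := by
    have e : (⟨_, a, b, rfl⟩ : ↥F₂) * hb₂ = κ mm := Subtype.ext (hbar a b)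
    have h := autNorm_mul τ (⟨_, a, b, rfl⟩ : ↥F₂) hb₂
    rw [e, hNh, hNb] at h
    have h' : θ₂ * θb = κ (c ^ n) := Subtype.ext hθθ
    rw [h'] at h
    refine κ.injective ?_
    rw [← h, autNorm, autNorm, hord, map_prod]
    refine Finset.prod_congr rfl fun i _ => ?_
    have e2 : κ mm = (⟨_, mm, 0, rfl⟩ : ↥F₂) := Subtype.ext (by simp [κ])
    rw [e2, hτκ]
    simp
  have hmm0 : mm ≠ 0 := by
    intro h
    rw [h, autNorm, ← hndef] at hNm
    exact pow_ne_zero _ hc0 (hNm.symm.trans (Finset.prod_eq_zero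
      (Finset.mem_range.2 (Nat.pos_of_ne_zero hn0)) (map_zero _)))
  have hb0 : b ≠ 0 := by
    intro hb
    subst hb
    have h := congrArg Subtype.val hNh
    have e : autNorm τ (⟨_, a, 0, rfl⟩ : ↥F₂) = κ (autNorm σ a) := by
      rw [autNorm, autNorm, hord, map_prod]
      refine Finset.prod_congr rfl fun i _ => ?_
      rw [hτκ]
      simp
    rw [e] at h
    change ι (autNorm σ a) = θ at h
    have h' : ι (-autNorm σ a) + ι 1 * θ = 0 := by
      rw [← h, map_neg, map_one, one_mul, neg_add_cancel]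
    exact one_ne_zero (hindep _ _ h').2
  -- `k` is the inverse of `h`
  set k : ↥F₂ := κ mm⁻¹ * hb₂ with hk
  have hkh : k * (⟨_, a, b, rfl⟩ : ↥F₂) = 1 := by
    rw [hk, mul_assoc, mul_comm hb₂, show (⟨_, a, b, rfl⟩ : ↥F₂) * hb₂ = κ mm from
      Subtype.ext (hbar a b), ← map_mul, inv_mul_cancel₀ hmm0, map_one]
  let y : U → U := fun u => (k : AddMonoid.End U) (z₁ u)
  have hcommE : ∀ (f : E) (x : ↥F₂), ι f * (x : AddMonoid.End U) = x * ι f := fun f x =>
    congrArg Subtype.val (mul_comm (κ f) x)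
  have hyadd : ∀ u w, y (u + w) = y u + y w := fun u w => by simp only [y, map_add]
  have hysl : ∀ (f : E) (u : U), y (f • u) = σ f • y u := fun f u => by
    show ((k : AddMonoid.End U) * (z₁ * ι f)) u = ((ι (σ f) * k) * z₁) u
    rw [c₁, ← mul_assoc, hcommE]
  have hit : ∀ (i : ℕ) (u : U), y^[i] u =
      ((∏ j ∈ Finset.range i, (τ ^ j : RingAut ↥F₂) k : ↥F₂) : AddMonoid.End U) ((z₁ ^ i) u) := by
    intro i u
    induction i with
    | zero => simp
    | succ i ih =>
      rw [Function.iterate_succ_apply', ih, Finset.prod_range_succ']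
      show ((k : AddMonoid.End U) * (z₁ *
        ((∏ j ∈ Finset.range i, (τ ^ j : RingAut ↥F₂) k : ↥F₂) : AddMonoid.End U))) ((z₁ ^ i) u) = _
      rw [hτz, ← mul_assoc, ← Subring.coe_mul,
        show τ₀ (∏ j ∈ Finset.range i, (τ ^ j : RingAut ↥F₂) k) =
          τ (∏ j ∈ Finset.range i, (τ ^ j : RingAut ↥F₂) k) from rfl, map_prod τ]
      simp only [← aut_pow_apply_succ, pow_zero]
      rw [show (1 : RingAut ↥F₂) k = k from rfl, mul_comm k, pow_succ' z₁]
      rfl
  obtain ⟨w, hw⟩ := exists_ne (0 : U)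
  obtain ⟨_, u, -, hu, hyu⟩ := exists_fixed σ y hyadd hysl (S := Set.univ)
    (fun _ _ _ => trivial) (fun u _ => by
      rw [← hndef, hit, ← hθ]
      show (((∏ j ∈ Finset.range n, (τ ^ j : RingAut ↥F₂) k : ↥F₂) * θ₂ : ↥F₂) :
        AddMonoid.End U) u = u
      rw [← hNh, autNorm, hord, ← Finset.prod_mul_distrib, Finset.prod_eq_one fun i _ => by
        rw [← map_mul, hkh, map_one]]
      rfl) (u₀ := w) trivial hw
  have hz1u : z₁ u = (ι a + ι b * θ) u := by
    conv_rhs => rw [← hyu]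
    show z₁ u = (((⟨_, a, b, rfl⟩ : ↥F₂) * k : ↥F₂) : AddMonoid.End U) (z₁ u)
    rw [mul_comm, hkh]
    rfl
  set k' : AddMonoid.End U :=
    ι (σ.symm (mm⁻¹ * (a + b * r))) + ι (σ.symm (mm⁻¹ * -b)) * θ with hk'
  have hu' : u = z₁ (k' u) := by
    show u = (z₁ * k') u
    rw [hk', hzA, RingEquiv.apply_symm_apply, RingEquiv.apply_symm_apply]
    conv_lhs => rw [← hyu]
    have ek : (k : AddMonoid.End U) = ι (mm⁻¹ * (a + b * r)) + ι (mm⁻¹ * -b) * θ := by
      show ι mm⁻¹ * (ι (a + b * r) + ι (-b) * θ) = _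
      rw [mul_add, ← mul_assoc, ← map_mul, ← map_mul]
    show (k : AddMonoid.End U) (z₁ u) = _
    rw [ek]
    rfl
  have hz2u : z₂ u = ι c (k' u) := by
    conv_lhs => rw [hu']
    show (z₂ * z₁) (k' u) = _
    rw [hQ]
  -- choose the multiplier
  set e : E := c * σ.symm (mm⁻¹ * b) / b with he
  have hinvfix : ∀ x : E, autNorm σ (σ.symm x) = autNorm σ x := by
    intro x
    have : σ (autNorm σ (σ.symm x)) = autNorm σ x := by
      simp only [autNorm, map_prod]
      refine Finset.prod_congr rfl fun i _ => ?_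
      rw [← aut_pow_apply_succ, pow_succ]
      show (σ ^ i : RingAut E) (σ (σ.symm x)) = _
      rw [RingEquiv.apply_symm_apply]
    rw [← this, aut_autNorm]
  have hNc : autNorm σ c = c ^ n := by
    have hci : ∀ i : ℕ, (σ ^ i : RingAut E) c = c := by
      intro i
      induction i with
      | zero => rfl
      | succ i ih => rw [aut_pow_apply_succ, ih, hc]
    rw [autNorm, ← hndef, Finset.prod_congr rfl (fun i _ => hci i), Finset.prod_const,
      Finset.card_range]
  have hNb0 : autNorm σ b ≠ 0 := by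
    rw [autNorm, Finset.prod_ne_zero_iff]
    exact fun i _ => (map_ne_zero_iff _ (σ ^ i : RingAut E).injective).2 hb0
  have hNe : autNorm σ e⁻¹ = 1 := by
    have h3 : autNorm σ e * autNorm σ (b * mm) = autNorm σ (c * b) := by
      rw [← autNorm_mul, show e * (b * mm) = c * σ.symm (mm⁻¹ * b) * mm by rw [he]; field_simp,
        autNorm_mul, autNorm_mul, autNorm_mul, hinvfix, ← autNorm_mul, ← autNorm_mul,
        ← autNorm_mul]
      congr 1
      field_simp
    rw [autNorm_mul, autNorm_mul, hNm, hNc, mul_comm (c ^ n)] at h3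
    have h4 : autNorm σ e = 1 := by
      refine mul_right_cancel₀ (mul_ne_zero hNb0 (pow_ne_zero n hc0)) ?_
      rw [h3, one_mul]
    have h5 : e ≠ 0 := by
      intro h
      rw [h, autNorm, ← hndef] at h4
      have h7 : ∏ i ∈ Finset.range n, (σ ^ i : RingAut E) 0 = 0 :=
        Finset.prod_eq_zero (Finset.mem_range.2 (Nat.pos_of_ne_zero hn0)) (map_zero _)
      exact zero_ne_one (h7.symm.trans h4)
    have h6 : autNorm σ (1 : E) = 1 := by simp [autNorm]
    rwa [show (1 : E) = e⁻¹ * e from (inv_mul_cancel₀ h5).symm, autNorm_mul, h4, mul_one,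
      inv_mul_cancel₀ h5] at h6
  obtain ⟨g', hg'0, hg'⟩ := exists_eq_mul_aut σ hNe
  set g : E := σ g' with hg
  have hgs : σ.symm g = g' := by rw [hg, RingEquiv.symm_apply_apply]
  have hkey : g * b + g' * c * σ.symm (mm⁻¹ * -b) = 0 := by
    have he0 : e ≠ 0 := by
      intro h
      rw [h, inv_zero, zero_mul] at hg'
      exact hg'0 hg'
    have : σ g' = e * g' := by
      conv_rhs => rw [hg']
      rw [← mul_assoc, mul_inv_cancel₀ he0, one_mul]
    rw [hg, this, he, mul_neg, map_neg]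
    field_simp
    ring
  refine hz1 ?_
  have hg0 : g ≠ 0 := by simpa [hg] using hg'0
  have hmem := scale_mem J ι hι hn c₁ c₂ hz g
  have h0 := z₁_eq_zero_of_apply J ι hι h1 h2 (c₁.smul ι g) (c₂.smul ι (σ.symm g)) hmem hu
    (f := g * a + g' * c * σ.symm (mm⁻¹ * (a + b * r))) (by
      show ι g (z₁ u) + ι (σ.symm g) (z₂ u) = _
      rw [hz1u, hz2u, hgs]
      show (ι g * (ι a + ι b * θ)) u + (ι g' * ι c * k') u = _
      rw [hk']
      have e3 : ι g * (ι a + ι b * θ) + ι g' * ι c *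
          (ι (σ.symm (mm⁻¹ * (a + b * r))) + ι (σ.symm (mm⁻¹ * -b)) * θ) =
          ι (g * a + g' * c * σ.symm (mm⁻¹ * (a + b * r))) := by
        have e4 : ι (g * b + g' * c * σ.symm (mm⁻¹ * -b)) * θ = 0 := by
          rw [hkey, map_zero, zero_mul]
        simp only [map_add, map_mul, mul_add, add_mul, ← mul_assoc] at e4 ⊢
        rw [add_add_add_comm, e4, add_zero]
      exact congrArg (fun φ : AddMonoid.End U => φ u) e3)
  exact comp_eq_zero_of_sum.eq_zero_of_left_zero ι h0 hg0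

/-- The vanishing of components for an automorphism of odd order, normalised case. -/
theorem vanish_normalised (hι : ∀ f, ι f ∈ J.M)
    (hmax : ∀ y ∈ J.M, (∀ f, y * ι f = ι f * y) → y ∈ Set.range ι)
    {σ : RingAut E} {m : ℕ} (hn : orderOf σ = 2 * m + 1) (h1 : σ ≠ 1) (h2 : σ ≠ σ.symm)
    {z₁ z₂ : AddMonoid.End U} (c₁ : IsComp ι σ z₁) (c₂ : IsComp ι σ.symm z₂)
    (hz : z₁ + z₂ ∈ J.M) {c : E} (hc : σ c = c) (hP : z₁ * z₂ = ι c) (hQ : z₂ * z₁ = ι c) :
    z₁ = 0 := by
  classical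
  by_contra hz1
  set n := orderOf σ with hndef
  set z := z₁ + z₂ with hzdef
  have hcomm : Commute z₁ z₂ := hP.trans hQ.symm
  have hc' : σ.symm c = c := σ.injective (by rw [RingEquiv.apply_symm_apply, hc])
  have hzc : z * ι c = ι c * z := by rw [add_mul, c₁, c₂, hc, hc', mul_add]
  have hG : J.Good (Subring.closure {z, ι c}) := by
    refine J.good_closure (Set.insert_subset hz (Set.singleton_subset_iff.2 (hι c))) ?_
    intro a ha b hb
    simp only [Set.mem_insert_iff, Set.mem_singleton_iff] at ha hb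
    rcases ha with rfl | rfl <;> rcases hb with rfl | rfl
    exacts [rfl, hzc, hzc.symm, rfl]
  have hrec : ∀ k, z₁ ^ (k + 2) + z₂ ^ (k + 2) =
      z * (z₁ ^ (k + 1) + z₂ ^ (k + 1)) - ι c * (z₁ ^ k + z₂ ^ k) := by
    intro k
    have e1 : z₁ * z₂ ^ (k + 1) = ι c * z₂ ^ k := by rw [pow_succ', ← mul_assoc, hP]
    have e2 : z₂ * z₁ ^ (k + 1) = ι c * z₁ ^ k := by rw [pow_succ', ← mul_assoc, hQ]
    rw [hzdef, add_mul, mul_add, mul_add, mul_add, e1, e2, ← pow_succ', ← pow_succ']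
    abel
  have hD : ∀ k, z₁ ^ k + z₂ ^ k ∈ Subring.closure {z, ι c} := by
    intro k
    induction k using Nat.strong_induction_on with
    | _ k ih =>
      match k with
      | 0 => rw [pow_zero, pow_zero]; exact add_mem (one_mem _) (one_mem _)
      | 1 => rw [pow_one, pow_one]; exact Subring.subset_closure (Set.mem_insert _ _)
      | k + 2 =>
        rw [hrec]
        exact sub_mem (mul_mem (Subring.subset_closure (Set.mem_insert _ _)) (ih (k + 1) (by omega)))
          (mul_mem (Subring.subset_closure (by simp)) (ih k (by omega)))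
  have hp1 : IsComp ι 1 (z₁ ^ n) := by
    have := c₁.powAut ι n
    rwa [pow_orderOf_eq_one] at this
  have hp2 : IsComp ι 1 (z₂ ^ n) := by
    have := c₂.powAut ι n
    rwa [symm_eq_inv, inv_pow, pow_orderOf_eq_one, inv_one] at this
  have hθc : ∀ f : E, z₁ ^ n * ι f = ι f * z₁ ^ n := hp1
  have hθc' : ∀ f : E, z₂ ^ n * ι f = ι f * z₂ ^ n := hp2
  obtain ⟨r, hr⟩ := hmax _ (hG.1 _ (hD n)) (fun f => by rw [add_mul, mul_add, hθc, hθc'])
  have hrfix : σ r = r := by
    have h : z₁ * ι r = ι r * z₁ := by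
      rw [hr, mul_add, add_mul, ← pow_succ', ← pow_succ, (hcomm.pow_right n).eq]
    rw [c₁] at h
    by_contra hne
    exact hz1 (eq_zero_of_left ι h hne)
  set θ : AddMonoid.End U := z₁ ^ n with hθ
  have hθ' : z₂ ^ n = ι r - θ := by rw [hr, add_sub_cancel_left]
  have hθθ : θ * (ι r - θ) = ι (c ^ n) := by rw [← hθ', ← hcomm.mul_pow, hP, ← map_pow]
  by_cases hroot : ∃ ρ : E, ρ ^ 2 - r * ρ + c ^ n = 0
  · obtain ⟨ρ, hρ⟩ := hroot
    exact hz1 (vanish_root J ι hι hn h1 h2 c₁ c₂ hz hc hP hQ hrfix hr hθθ hθc hrec hρ)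
  · exact hz1 (vanish_noroot J ι hι hn h1 h2 c₁ c₂ hz hc hP hQ hrfix hr hθθ hθc
      fun ρ h => hroot ⟨ρ, h⟩)

/-- No components for a nontrivial automorphism. -/
theorem vanish (hι : ∀ f, ι f ∈ J.M) [DecidableEq E] {x : E}
    (hgen : ∀ f : E, f ≠ 0 → ∃ k : ℕ, f = x ^ k)
    (hmax : ∀ y ∈ J.M, (∀ f, y * ι f = ι f * y) → y ∈ Set.range ι)
    {σ : RingAut E} (h1 : σ ≠ 1) {z₁ z₂ : AddMonoid.End U} (c₁ : IsComp ι σ z₁)
    (c₂ : IsComp ι σ.symm z₂) (hss : σ = σ.symm → z₂ = 0) (hz : z₁ + z₂ ∈ J.M) : z₁ = 0 := by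
  haveI : Finite (RingAut E) :=
    Finite.of_injective (fun f : RingAut E => (f : E → E)) DFunLike.coe_injective
  rcases Nat.even_or_odd (orderOf σ) with hev | hodd
  · -- interchange two elements
    obtain ⟨l, hl⟩ := hev
    obtain ⟨k, hk2, hk1⟩ : ∃ k : E, σ (σ k) = k ∧ σ k ≠ k := by
      by_contra! hall
      have hl0 : 0 < l := by have := orderOf_pos σ; omega
      set t : E → E := fun a => ∑ j ∈ Finset.range l, (σ ^ (2 * j) : RingAut E) a with ht
      have hts : ∀ a, σ (σ (t a)) = t a := by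
        intro a
        simp only [ht, map_sum, ← aut_pow_apply_succ]
        have h := Finset.sum_range_succ (fun j => (σ ^ (2 * j) : RingAut E) a) l
        rw [Finset.sum_range_succ', show 2 * l = orderOf σ by omega, pow_orderOf_eq_one] at h
        simpa [Nat.mul_succ, add_assoc] using h
      have hindep := eq_zero_of_sum_smul (U := E)
        (fun i : ℕ => ((σ ^ i : RingAut E) : E →+* E)) _
        (fun i => (-1 : E) ^ i) (pow_injOn_order σ) (fun a => ?_) 0
        (Finset.mem_range.2 (orderOf_pos σ))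
      · simp at hindep
      have h := hall _ (hts a)
      simp only [ht, map_sum, ← aut_pow_apply_succ] at h
      have key : ∀ q : ℕ, ∑ i ∈ Finset.range (2 * q), (σ ^ i : RingAut E) a • (-1 : E) ^ i =
          ∑ j ∈ Finset.range q, (σ ^ (2 * j) : RingAut E) a -
            ∑ j ∈ Finset.range q, (σ ^ (2 * j + 1) : RingAut E) a := by
        intro q
        induction q with
        | zero => simp
        | succ q ih =>
          have e1 : (-1 : E) ^ (2 * q) = 1 := by rw [pow_mul, neg_one_sq, one_pow]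
          rw [show 2 * (q + 1) = 2 * q + 1 + 1 by omega, Finset.sum_range_succ,
            Finset.sum_range_succ, ih, Finset.sum_range_succ, Finset.sum_range_succ,
            pow_succ (-1 : E), e1]
          simp only [smul_eq_mul, mul_one, mul_neg_one]
          ring
      rw [show orderOf σ = 2 * l by omega]
      show ∑ i ∈ Finset.range (2 * l), (σ ^ i : RingAut E) a • (-1 : E) ^ i = 0
      rw [key, h, sub_self]
    have hk2' : σ.symm k = σ k := σ.injective (by rw [RingEquiv.apply_symm_apply, hk2])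
    have hne : ι k ≠ ι (σ k) := fun h => hk1 (ι.injective h).symm
    have e1 : (z₁ + z₂) * ι k = ι (σ k) * (z₁ + z₂) := by
      rw [add_mul, c₁, c₂, hk2', mul_add]
    have e2 : (z₁ + z₂) * ι (σ k) = ι k * (z₁ + z₂) := by
      rw [add_mul, c₁, c₂, hk2, RingEquiv.symm_apply_apply, mul_add]
    have h0 := anti_zero J (hι k) (hι (σ k)) hz e1 e2 hne
    by_cases h2 : σ = σ.symm
    · rw [hss h2, add_zero] at h0
      exact h0
    · exact comp_eq_zero_of_sum ι h1 h2 c₁ c₂ (f := 0) (by rw [map_zero]; exact h0)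
  · obtain ⟨m, hn⟩ := hodd
    by_contra hz1
    have h2 : σ ≠ σ.symm := by
      intro h
      refine h1 (RingEquiv.ext fun f => fixed_of_sq_fixed hn ?_)
      rw [show σ (σ f) = σ.symm (σ f) from RingEquiv.congr_fun h (σ f),
        RingEquiv.symm_apply_apply]
    have hσ2 : σ * σ ≠ 1 := fun h => h2 (by rw [symm_eq_inv, eq_inv_iff_mul_eq_one, h])
    have hP1 : IsComp ι 1 (z₁ * z₂) := by
      have := c₁.mul ι c₂
      rwa [symm_eq_inv, mul_inv_cancel] at this
    have hQ1 : IsComp ι 1 (z₂ * z₁) := by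
      have := c₂.mul ι c₁
      rwa [symm_eq_inv, inv_mul_cancel] at this
    -- the commuting part of `z f z`
    have ht : ∀ f : E, ∃ t : E, ι (σ f) * (z₁ * z₂) + ι (σ.symm f) * (z₂ * z₁) = ι t := by
      intro f
      have h := J.mul_mul_mem _ hz _ (hι f)
      rw [show (z₁ + z₂) * ι f * (z₁ + z₂) = ι (σ f) * (z₁ * z₁) +
          (ι (σ f) * (z₁ * z₂) + ι (σ.symm f) * (z₂ * z₁)) + ι (σ.symm f) * (z₂ * z₂) by
        rw [add_mul, c₁, c₂]
        noncomm_ring] at h
      have hb : IsComp ι 1 (ι (σ f) * (z₁ * z₂) + ι (σ.symm f) * (z₂ * z₁)) := fun a => by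
        rw [add_mul, (hP1.smul ι _) a, (hQ1.smul ι _) a, mul_add]
      have hcc : IsComp ι (σ * σ).symm (ι (σ.symm f) * (z₂ * z₂)) := by
        have := (c₂.mul ι c₂).smul ι (σ.symm f)
        rwa [symm_eq_inv, ← mul_inv_rev, ← symm_eq_inv] at this
      obtain ⟨t, ht⟩ := hmax _ (comp_one_mem ι x J hι hgen hσ2 ((c₁.mul ι c₁).smul ι _) hb hcc h)
        (fun a => hb a)
      exact ⟨t, ht.symm⟩
    obtain ⟨f, hf⟩ : ∃ f, σ f ≠ σ.symm f := by
      by_contra! hh
      exact h2 (RingEquiv.ext hh)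
    obtain ⟨s, hs⟩ := ht 1
    obtain ⟨t, ht⟩ := ht f
    simp only [map_one, one_mul] at hs
    obtain ⟨pP, hpP⟩ : ∃ pP : E, z₁ * z₂ = ι pP := by
      refine ⟨(σ f - σ.symm f)⁻¹ * (t - σ.symm f * s), ?_⟩
      have h3 : ι (σ f - σ.symm f) * (z₁ * z₂) = ι (t - σ.symm f * s) := by
        rw [map_sub, map_sub, sub_mul, ← ht, map_mul, ← hs, mul_add]
        abel
      rw [map_mul, ← h3, ← mul_assoc, ← map_mul, inv_mul_cancel₀ (sub_ne_zero.2 hf), map_one,
        one_mul]
    obtain ⟨qQ, hqQ⟩ : ∃ qQ : E, z₂ * z₁ = ι qQ :=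
      ⟨s - pP, by rw [map_sub, ← hs, ← hpP, add_sub_cancel_left]⟩
    have hPQ : σ qQ = pP := by
      by_contra hne
      refine hz1 (eq_zero_of_left ι (f := σ qQ) (g := pP) ?_ hne)
      rw [← c₁, ← hqQ, ← hpP, mul_assoc]
    obtain ⟨g, hg0, hgfix⟩ := exists_sq_mul_fixed σ hn pP
    have hz' := scale_mem J ι hι hn c₁ c₂ hz g
    have h0 := vanish_normalised J ι hι hmax hn h1 h2 (c₁.smul ι g) (c₂.smul ι (σ.symm g)) hz'
      (c := g * g * pP) hgfix
      (by
        rw [mul_assoc, ← mul_assoc z₁, c₁, RingEquiv.apply_symm_apply, mul_assoc, hpP, ← map_mul,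
          ← map_mul, ← mul_assoc])
      (by
        rw [mul_assoc, ← mul_assoc z₂, c₂, mul_assoc, hqQ, ← map_mul, ← map_mul]
        congr 1
        apply σ.injective
        simp only [map_mul, RingEquiv.apply_symm_apply, hPQ]
        simp only [map_mul] at hgfix
        linear_combination -hgfix)
    exact hz1 (comp_eq_zero_of_sum.eq_zero_of_left_zero ι h0 hg0)

/-- A finite Jordan system of endomorphisms is commutative. -/
theorem jordan_comm {a b : AddMonoid.End U} (ha : a ∈ J.M) (hb : b ∈ J.M) : a * b = b * a := by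
  classical
  obtain ⟨F, hF, haF, hmax⟩ := JSys.Good.exists_maximal (J := J) ha
  letI : Field ↥F := hF.field
  haveI : Fintype ↥F := Fintype.ofFinite _
  obtain ⟨x, -, hgen⟩ := exists_gen ↥F
  let ι' : ↥F →+* AddMonoid.End U := F.subtype
  have hι : ∀ f, ι' f ∈ J.M := fun f => hF.1 _ f.2
  have hmax' : ∀ y ∈ J.M, (∀ f, y * ι' f = ι' f * y) → y ∈ Set.range ι' := fun y hy h =>
    ⟨⟨y, hmax y hy fun f hf => h ⟨f, hf⟩⟩, rfl⟩
  obtain ⟨⟨f, hf⟩, rfl⟩ := mem_range_of_vanish ι' x J hι hgen hmax'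
    (fun σ h1 z₁ z₂ c₁ c₂ hss hz => vanish J ι' hι hgen hmax' h1 c₁ c₂ hss hz) hb
  exact hF.2 a haF f hf

end Cfsg.Agent.FFSL2
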