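import Cfsg.Agent.Lib.Thompson.FFSL2.System
import Cfsg.Agent.Lib.Thompson.FFSL2.Jordan
import Cfsg.Agent.Lib.LinearGroup.Generation

/-!
Two opposite quadratic groups permuting a common set of fixed spaces act as `SL₂(q)` on a plane.
-/

set_option autoImplicit false
set_option linter.unusedSectionVars false
set_option linter.style.haveILetI false

namespace Cfsg.Agent.FFSL2

open scoped MatrixGroups

variable {H : Type*} [Group H] [Finite H] {V : Type*} [AddCommGroup V] [Finite V]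
  [DistribMulAction H V]

/-- A copy of `Fin n`, to carry transported field structures. -/
def Carrier (n : ℕ) : Type := Fin n

instance (n : ℕ) : Fintype (Carrier n) := inferInstanceAs (Fintype (Fin n))

/-- The hypotheses on an opposite pair. -/
structure Pair (A B : Subgroup H) (q : ℕ) : Prop where
  cardA : Nat.card ↥A = q
  cardB : Nat.card ↥B = q
  cardWA : Nat.card ↥(fix A : AddSubgroup V) = q
  cardWB : Nat.card ↥(fix B : AddSubgroup V) = q
  two_le : 2 ≤ q
  sup_eq : (fix A : AddSubgroup V) ⊔ fix B = ⊤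
  inf_eq : (fix A : AddSubgroup V) ⊓ fix B = ⊥
  quadA : ∀ a ∈ A, ∀ v : V, a • v - v ∈ (fix A : AddSubgroup V)
  quadB : ∀ b ∈ B, ∀ v : V, b • v - v ∈ (fix B : AddSubgroup V)
  injA : ∀ a ∈ A, a ≠ 1 → ∀ u ∈ (fix B : AddSubgroup V), a • u = u → u = 0
  injB : ∀ b ∈ B, b ≠ 1 → ∀ w ∈ (fix A : AddSubgroup V), b • w = w → w = 0
  line : ∀ b ∈ B, b ≠ 1 → ∃ a ∈ A, ∀ w ∈ (fix A : AddSubgroup V),
    ∃ u ∈ (fix B : AddSubgroup V), b • w = a • u

namespace Pair

variable {A B : Subgroup H} {q : ℕ} (P : Pair (V := V) A B q)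
include P

theorem smul_mul_sub {a a' : H} (ha : a ∈ A) (ha' : a' ∈ A) (v : V) :
    (a * a') • v - v = (a • v - v) + (a' • v - v) := by
  have h := P.quadA a' ha' v a ha
  rw [smul_sub, sub_eq_iff_eq_add] at h
  rw [mul_smul, h]
  abel

theorem smul_mul_subB {b b' : H} (hb : b ∈ B) (hb' : b' ∈ B) (v : V) :
    (b * b') • v - v = (b • v - v) + (b' • v - v) := by
  have h := P.quadB b' hb' v b hb
  rw [smul_sub, sub_eq_iff_eq_add] at h
  rw [mul_smul, h]
  abel

theorem smul_fixA {a : H} (ha : a ∈ A) (w : ↥(fix A : AddSubgroup V)) : a • (w : V) = w := w.2 a ha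

/-- `u ↦ a u - u` on the fixed space of `B`. -/
def fMap (a : ↥A) : ↥(fix B : AddSubgroup V) →+ ↥(fix A : AddSubgroup V) where
  toFun u := ⟨(a : H) • (u : V) - u, P.quadA a a.2 u⟩
  map_zero' := Subtype.ext (by simp)
  map_add' u u' := Subtype.ext (by simp only [AddSubgroup.coe_add, smul_add]; abel)

/-- `w ↦ b w - w` on the fixed space of `A`. -/
def gMap (b : ↥B) : ↥(fix A : AddSubgroup V) →+ ↥(fix B : AddSubgroup V) where
  toFun w := ⟨(b : H) • (w : V) - w, P.quadB b b.2 w⟩
  map_zero' := Subtype.ext (by simp)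
  map_add' u u' := Subtype.ext (by simp only [AddSubgroup.coe_add, smul_add]; abel)

theorem fMap_injective {a : ↥A} (ha : a ≠ 1) : Function.Injective (P.fMap a) := by
  rw [injective_iff_map_eq_zero]
  intro u hu
  exact Subtype.ext (P.injA a a.2 (fun h => ha (Subtype.ext h)) u u.2
    (sub_eq_zero.1 (congrArg Subtype.val hu)))

theorem fMap_bijective {a : ↥A} (ha : a ≠ 1) : Function.Bijective (P.fMap a) :=
  (Nat.bijective_iff_injective_and_card _).2 ⟨P.fMap_injective ha, by rw [P.cardWA, P.cardWB]⟩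

theorem gMap_injective {b : ↥B} (hb : b ≠ 1) : Function.Injective (P.gMap b) := by
  rw [injective_iff_map_eq_zero]
  intro u hu
  exact Subtype.ext (P.injB b b.2 (fun h => hb (Subtype.ext h)) u u.2
    (sub_eq_zero.1 (congrArg Subtype.val hu)))

/-- The coordinates on `V` given by a field of endomorphisms of `C_V(A)`. -/
theorem exists_coords {F : Type*} [Field F] [Fintype F] (hcard : Nat.card F = q)
    (e : ↥(fix B : AddSubgroup V) ≃+ ↥(fix A : AddSubgroup V))
    (ι : F →+* AddMonoid.End ↥(fix A : AddSubgroup V)) (tA : ↥A → F) (tB : ↥B → F)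
    (htA : ∀ a, ι (tA a) = (P.fMap a).comp e.symm.toAddMonoidHom)
    (htB : ∀ b, ι (tB b) = e.toAddMonoidHom.comp (P.gMap b))
    (hsA : ∀ x, ∃ a, tA a = x) (hsB : ∀ x, ∃ b, tB b = x)
    (hfaith : ∀ h : H, (∀ v : V, h • v = v) → h = 1) (hgen : A ⊔ B = ⊤) :
    ∃ (ρ : H ≃* SL(2, F)) (ψ : V ≃+ (Fin 2 → F)),
      ∀ (h : H) (v : V), ψ (h • v) = (ρ h : Matrix (Fin 2) (Fin 2) F).mulVec (ψ v) := by
  classical
  haveI : Nontrivial ↥(fix A : AddSubgroup V) := Finite.one_lt_card_iff_nontrivial.1 (by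
    rw [P.cardWA]; exact P.two_le)
  -- the coordinates
  obtain ⟨w₀, hw₀⟩ := exists_ne (0 : ↥(fix A : AddSubgroup V))
  let η₀ : F →+ ↥(fix A : AddSubgroup V) := AddMonoidHom.mk' (fun x => ι x w₀) fun x y => by
      rw [map_add]
      rfl
  have hη : Function.Bijective η₀ := by
    refine (Nat.bijective_iff_injective_and_card η₀).2 ⟨?_, ?_⟩
    · rw [injective_iff_map_eq_zero]
      intro x hx
      by_contra hx0
      obtain ⟨u, hu⟩ := (isUnit_iff_ne_zero.2 hx0).map ι
      refine hw₀ ?_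
      have h1 : u.val w₀ = 0 := by rw [hu]; exact hx
      calc w₀ = ((u⁻¹).val * u.val : AddMonoid.End _) w₀ := by rw [Units.inv_mul]; rfl
        _ = 0 := by
          show (u⁻¹).val (u.val w₀) = 0
          rw [h1, map_zero]
    · rw [P.cardWA, hcard]
  let η := AddEquiv.ofBijective η₀ hη
  have hηmul : ∀ (x : F) (w : ↥(fix A : AddSubgroup V)), η.symm (ι x w) = x * η.symm w := by
    intro x w
    apply η.injective
    rw [AddEquiv.apply_symm_apply]
    show ι x w = ι (x * η.symm w) w₀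
    rw [map_mul]
    show ι x w = ι x (η₀ (η.symm w))
    rw [show η₀ (η.symm w) = w from η.apply_symm_apply w]
  let χ : (Fin 2 → F) →+ V := AddMonoidHom.mk'
    (fun f => (η (f 0) : V) + (e.symm (η (f 1)) : V)) fun f g => by
      simp only [Pi.add_apply, map_add, AddSubgroup.coe_add]
      abel
  have hχ : Function.Bijective χ := by
    refine ⟨?_, fun v => ?_⟩
    · rw [injective_iff_map_eq_zero]
      intro f hf
      have hf' : (η (f 0) : V) + (e.symm (η (f 1)) : V) = 0 := hf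
      have hm : (η (f 0) : V) ∈ (fix A : AddSubgroup V) ⊓ fix B :=
        AddSubgroup.mem_inf.2 ⟨(η (f 0)).2, by
          rw [eq_neg_of_add_eq_zero_left hf']; exact neg_mem (e.symm (η (f 1))).2⟩
      rw [P.inf_eq, AddSubgroup.mem_bot] at hm
      rw [hm, zero_add] at hf'
      funext i
      fin_cases i
      · exact η.map_eq_zero_iff.1 (Subtype.ext hm)
      · exact η.map_eq_zero_iff.1 (e.symm.map_eq_zero_iff.1 (Subtype.ext hf'))
    · have hv : v ∈ (fix A : AddSubgroup V) ⊔ fix B := by rw [P.sup_eq]; exact AddSubgroup.mem_top v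
      obtain ⟨w, hw, u, hu, rfl⟩ := AddSubgroup.mem_sup.1 hv
      refine ⟨![η.symm ⟨w, hw⟩, η.symm (e ⟨u, hu⟩)], ?_⟩
      show (η _ : V) + (e.symm (η _) : V) = w + u
      simp
  let ψ : V ≃+ (Fin 2 → F) := (AddEquiv.ofBijective χ hχ).symm
  have hψχ : ∀ f, ψ (χ f) = f := fun f => (AddEquiv.ofBijective χ hχ).symm_apply_apply f
  have hχψ : ∀ v, χ (ψ v) = v := fun v => (AddEquiv.ofBijective χ hχ).apply_symm_apply v
  let Rel : H → SL(2, F) → Prop := fun h m => ∀ f, h • χ f = χ ((m : Matrix _ _ _).mulVec f)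
  have hA : ∀ a : ↥A, Rel a (Matrix.SpecialLinearGroup.transvection (show (0 : Fin 2) ≠ 1 by decide)
      (tA a)) := by
    intro a f
    set t : F := tA a with ht
    have hm : ((Matrix.SpecialLinearGroup.transvection (show (0 : Fin 2) ≠ 1 by decide) t :
        SL(2, F)) : Matrix (Fin 2) (Fin 2) F).mulVec f = ![f 0 + t * f 1, f 1] := by
      funext i
      fin_cases i <;>
        simp [Matrix.SpecialLinearGroup.transvection_coe, Matrix.mulVec,
          dotProduct, Fin.sum_univ_two, Matrix.add_apply, Matrix.single_apply, Matrix.one_apply]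
    rw [hm]
    show (a : H) • ((η (f 0) : V) + (e.symm (η (f 1)) : V)) = _
    show _ = (η (f 0 + t * f 1) : V) + (e.symm (η (f 1)) : V)
    rw [smul_add, P.smul_fixA a.2]
    have : η (t * f 1) = P.fMap a (e.symm (η (f 1))) := by
      apply η.symm.injective
      rw [AddEquiv.symm_apply_apply]
      rw [show P.fMap a (e.symm (η (f 1))) = ι t (η (f 1)) by rw [ht, htA]; rfl, hηmul,
        AddEquiv.symm_apply_apply]
    rw [map_add, this, AddSubgroup.coe_add]
    show _ = (η (f 0) : V) + ((a : H) • (e.symm (η (f 1)) : V) - (e.symm (η (f 1)) : V)) + _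
    abel
  have hB : ∀ b : ↥B, Rel b (Matrix.SpecialLinearGroup.transvection (show (1 : Fin 2) ≠ 0 by decide)
      (tB b)) := by
    intro b f
    set t : F := tB b with ht
    have hm : ((Matrix.SpecialLinearGroup.transvection (show (1 : Fin 2) ≠ 0 by decide) t :
        SL(2, F)) : Matrix (Fin 2) (Fin 2) F).mulVec f = ![f 0, t * f 0 + f 1] := by
      funext i
      fin_cases i <;>
        simp [Matrix.SpecialLinearGroup.transvection_coe, Matrix.mulVec,
          dotProduct, Fin.sum_univ_two, Matrix.add_apply, Matrix.single_apply, Matrix.one_apply]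
    rw [hm]
    show (b : H) • ((η (f 0) : V) + (e.symm (η (f 1)) : V)) =
      (η (f 0) : V) + (e.symm (η (t * f 0 + f 1)) : V)
    rw [smul_add, (e.symm (η (f 1))).2 b b.2]
    have : e.symm (η (t * f 0)) = P.gMap b (η (f 0)) := by
      apply e.injective
      rw [AddEquiv.apply_symm_apply]
      apply η.symm.injective
      rw [AddEquiv.symm_apply_apply]
      rw [show e (P.gMap b (η (f 0))) = ι t (η (f 0)) by rw [ht, htB]; rfl, hηmul,
        AddEquiv.symm_apply_apply]
    rw [map_add, map_add, this, AddSubgroup.coe_add]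
    show _ = (η (f 0) : V) + (((b : H) • (η (f 0) : V) - (η (f 0) : V)) + _)
    abel
  have hmul : ∀ h h' m m', Rel h m → Rel h' m' → Rel (h * h') (m * m') := fun h h' m m' r r' f => by
    rw [mul_smul, r', r, Matrix.SpecialLinearGroup.coe_mul, Matrix.mulVec_mulVec]
  have hrinv : ∀ h m, Rel h m → Rel h⁻¹ m⁻¹ := fun h m r f => by
    rw [inv_smul_eq_iff, r, Matrix.mulVec_mulVec, ← Matrix.SpecialLinearGroup.coe_mul,
      mul_inv_cancel, Matrix.SpecialLinearGroup.coe_one, Matrix.one_mulVec]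
  have hone' : Rel 1 1 := fun f => by
    rw [one_smul, Matrix.SpecialLinearGroup.coe_one, Matrix.one_mulVec]
  let S : Subgroup H :=
    { carrier := {h | ∃ m, Rel h m}
      one_mem' := ⟨1, hone'⟩
      mul_mem' := fun ⟨m, r⟩ ⟨m', r'⟩ => ⟨m * m', hmul _ _ _ _ r r'⟩
      inv_mem' := fun ⟨m, r⟩ => ⟨m⁻¹, hrinv _ _ r⟩ }
  have hS : S = ⊤ := by
    rw [eq_top_iff, ← hgen]
    exact sup_le (fun a ha => ⟨_, hA ⟨a, ha⟩⟩) (fun b hb => ⟨_, hB ⟨b, hb⟩⟩)
  have hex : ∀ h : H, ∃ m, Rel h m := fun h => (show h ∈ S from hS.symm ▸ Subgroup.mem_top h)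
  choose ρ hρ using hex
  have huniq : ∀ h m, Rel h m → ρ h = m := fun h m r => by
    apply Subtype.ext
    apply Matrix.mulVec_injective
    funext f
    exact hχ.1 (((hρ h) f).symm.trans (r f))
  let ρh : H →* SL(2, F) :=
    { toFun := ρ
      map_one' := huniq _ _ hone'
      map_mul' := fun h h' => huniq _ _ (hmul _ _ _ _ (hρ h) (hρ h')) }
  have hinj : Function.Injective ρh := by
    rw [injective_iff_map_eq_one]
    intro h hh
    refine hfaith h fun v => ?_
    rw [← hχψ v, hρ h (ψ v), show ρ h = 1 from hh, Matrix.SpecialLinearGroup.coe_one,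
      Matrix.one_mulVec]
  have hsurj : Function.Surjective ρh := by
    rw [← MonoidHom.range_eq_top]
    apply LinearGroup.eq_top_of_transvection_mem
    intro i j hij x
    fin_cases i <;> fin_cases j
    · exact absurd rfl hij
    · obtain ⟨a, ha⟩ := hsA x
      exact ⟨a, (huniq _ _ (hA a)).trans (by rw [ha])⟩
    · obtain ⟨b, hb⟩ := hsB x
      exact ⟨b, (huniq _ _ (hB b)).trans (by rw [hb])⟩
    · exact absurd rfl hij
  refine ⟨MulEquiv.ofBijective ρh ⟨hinj, hsurj⟩, ψ, fun h v => ?_⟩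
  conv_lhs => rw [← hχψ v, hρ h (ψ v), hψχ]
  rfl


/-- The pair acts on `V` as `SL₂` of a field acts on the natural module. -/
theorem exists_field {p : ℕ} [Fact p.Prime] (hp : ∀ v : V, p • v = 0)
    (hfaith : ∀ h : H, (∀ v : V, h • v = v) → h = 1) (hgen : A ⊔ B = ⊤) :
    ∃ (F : Type) (_ : Field F) (_ : Fintype F) (ρ : H ≃* SL(2, F)) (ψ : V ≃+ (Fin 2 → F)),
      ∀ (h : H) (v : V), ψ (h • v) = (ρ h : Matrix (Fin 2) (Fin 2) F).mulVec (ψ v) := by
  classical
  haveI : Nontrivial ↥(fix A : AddSubgroup V) := Finite.one_lt_card_iff_nontrivial.1 (by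
    rw [P.cardWA]; exact P.two_le)
  obtain ⟨a₀, ha₀⟩ : ∃ a₀ : ↥A, a₀ ≠ 1 := by
    haveI : Nontrivial ↥A := Finite.one_lt_card_iff_nontrivial.1 (by rw [P.cardA]; exact P.two_le)
    exact exists_ne 1
  let e : ↥(fix B : AddSubgroup V) ≃+ ↥(fix A : AddSubgroup V) :=
    AddEquiv.ofBijective (P.fMap a₀) (P.fMap_bijective ha₀)
  let μ : ↥A → AddMonoid.End ↥(fix A : AddSubgroup V) := fun a =>
    (P.fMap a).comp e.symm.toAddMonoidHom
  let ν : ↥B → AddMonoid.End ↥(fix A : AddSubgroup V) := fun b =>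
    e.toAddMonoidHom.comp (P.gMap b)
  have hμadd : ∀ a a', μ (a * a') = μ a + μ a' := fun a a' => AddMonoidHom.ext fun w =>
    Subtype.ext (P.smul_mul_sub a.2 a'.2 _)
  have hνadd : ∀ b b', ν (b * b') = ν b + ν b' := fun b b' => AddMonoidHom.ext fun w => by
    show e (P.gMap (b * b') w) = e (P.gMap b w) + e (P.gMap b' w)
    rw [← map_add]
    congr 1
    exact Subtype.ext (P.smul_mul_subB b.2 b'.2 _)
  let μh : Additive ↥A →+ AddMonoid.End ↥(fix A : AddSubgroup V) :=
    AddMonoidHom.mk' (fun a => μ a.toMul) fun a a' => hμadd _ _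
  let νh : Additive ↥B →+ AddMonoid.End ↥(fix A : AddSubgroup V) :=
    AddMonoidHom.mk' (fun b => ν b.toMul) fun b b' => hνadd _ _
  have hμzero : ∀ a, μ a = 0 → a = 1 := fun a h => by
    by_contra ha
    obtain ⟨w, hw⟩ := exists_ne (0 : ↥(fix A : AddSubgroup V))
    have h' : P.fMap a (e.symm w) = 0 := congrArg (fun φ : AddMonoid.End _ => φ w) h
    rw [← map_zero (P.fMap a)] at h'
    exact hw (e.symm.map_eq_zero_iff.1 (P.fMap_injective ha h'))
  have hνzero : ∀ b, ν b = 0 → b = 1 := fun b h => by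
    by_contra hb
    obtain ⟨w, hw⟩ := exists_ne (0 : ↥(fix A : AddSubgroup V))
    have h' : e (P.gMap b w) = 0 := congrArg (fun φ : AddMonoid.End _ => φ w) h
    rw [e.map_eq_zero_iff, ← map_zero (P.gMap b)] at h'
    exact hw (P.gMap_injective hb h')
  have hμinj : Function.Injective μ := fun a a' h => by
    have h1 : μh (Additive.ofMul a - Additive.ofMul a') = 0 := by
      rw [map_sub]
      exact sub_eq_zero.2 h
    exact Additive.ofMul.injective (sub_eq_zero.1 (hμzero _ h1))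
  have hνinj : Function.Injective ν := fun b b' h => by
    have h1 : νh (Additive.ofMul b - Additive.ofMul b') = 0 := by
      rw [map_sub]
      exact sub_eq_zero.2 h
    exact Additive.ofMul.injective (sub_eq_zero.1 (hνzero _ h1))
  have hμbij : ∀ a, a ≠ 1 → Function.Bijective (μ a) := fun a ha =>
    (P.fMap_bijective ha).comp e.symm.bijective
  have hμunit : ∀ a, a ≠ 1 → IsUnit (μ a) := fun a ha => by
    let s := AddEquiv.ofBijective (μ a) (hμbij a ha)
    exact ⟨⟨μ a, s.symm.toAddMonoidHom, AddMonoidHom.ext fun w => s.apply_symm_apply w,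
      AddMonoidHom.ext fun w => s.symm_apply_apply w⟩, rfl⟩
  -- the lines of `B` are lines of `A`
  have hline : ∀ b, b ≠ 1 → ∃ a, a ≠ 1 ∧ μ a * ν b = 1 := by
    intro b hb
    obtain ⟨a, ha, hl⟩ := P.line b b.2 fun h => hb (Subtype.ext h)
    have he : ∀ w : ↥(fix A : AddSubgroup V), P.fMap ⟨a, ha⟩ (P.gMap b w) = w := by
      intro w
      obtain ⟨u, hu, hbw⟩ := hl w w.2
      have h0 : ((b : H) • (w : V) - w) - u = (a • u - u) - w := by rw [hbw]; abel
      have hm : ((b : H) • (w : V) - w) - u ∈ (fix A : AddSubgroup V) ⊓ fix B :=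
        AddSubgroup.mem_inf.2 ⟨h0 ▸ sub_mem (P.quadA a ha u) w.2,
          sub_mem (P.quadB b b.2 w) hu⟩
      rw [P.inf_eq, AddSubgroup.mem_bot] at hm
      refine Subtype.ext ?_
      show a • ((b : H) • (w : V) - w) - ((b : H) • (w : V) - w) = w
      rw [sub_eq_zero.1 hm]
      rw [h0] at hm
      exact sub_eq_zero.1 hm
    refine ⟨⟨a, ha⟩, fun h => ?_, AddMonoidHom.ext fun w => ?_⟩
    · obtain ⟨w, hw⟩ := exists_ne (0 : ↥(fix A : AddSubgroup V))
      apply hw
      rw [← he w, h]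
      exact Subtype.ext (by simp [fMap])
    · show P.fMap ⟨a, ha⟩ (e.symm (e (P.gMap b w))) = w
      rw [AddEquiv.symm_apply_apply, he]
  -- every nonzero `μ a` arises so
  have hinv : ∀ a, a ≠ 1 → ∃ b, μ a * ν b = 1 := by
    intro a ha
    choose f hf1 hf using hline
    let g : {b : ↥B // b ≠ 1} → {a : ↥A // a ≠ 1} := fun b => ⟨f b.1 b.2, hf1 _ _⟩
    have hg : Function.Injective g := fun b b' h => by
      have h' : f b.1 b.2 = f b'.1 b'.2 := congrArg Subtype.val h
      refine Subtype.ext (hνinj ?_)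
      have h2 := hf b'.1 b'.2
      rw [← h', ← hf b.1 b.2] at h2
      exact ((hμunit _ (hf1 b.1 b.2)).mul_left_cancel h2).symm
    have hc : Nat.card {b : ↥B // b ≠ 1} = Nat.card {a : ↥A // a ≠ 1} := by
      have e1 := Nat.card_congr (Equiv.sumCompl (fun b : ↥B => b = 1))
      have e2 := Nat.card_congr (Equiv.sumCompl (fun a : ↥A => a = 1))
      rw [Nat.card_sum, Nat.card_unique, P.cardB] at e1
      rw [Nat.card_sum, Nat.card_unique, P.cardA] at e2
      simp only [ne_eq] at *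
      omega
    obtain ⟨b, hb⟩ := ((Nat.bijective_iff_injective_and_card g).2 ⟨hg, hc⟩).2 ⟨a, ha⟩
    have h3 : f b.1 b.2 = a := congrArg Subtype.val hb
    have h4 := hf b.1 b.2
    rw [h3] at h4
    exact ⟨b.1, h4⟩
  -- the Jordan system
  set M : AddSubgroup (AddMonoid.End ↥(fix A : AddSubgroup V)) := μh.range with hM
  have hMmem : ∀ x, x ∈ M ↔ ∃ a, μ a = x := fun x =>
    ⟨fun ⟨a, h⟩ => ⟨a.toMul, h⟩, fun ⟨a, h⟩ => ⟨Additive.ofMul a, h⟩⟩
  have hone : (1 : AddMonoid.End ↥(fix A : AddSubgroup V)) ∈ M := (hMmem 1).2 ⟨a₀,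
    AddMonoidHom.ext fun w => e.apply_symm_apply w⟩
  have hne1 : ∀ a, μ a ≠ 0 → a ≠ 1 := fun a h h1 => h (by
    rw [h1]
    exact map_zero μh)
  have hunit : ∀ x ∈ M, x ≠ 0 → IsUnit x := fun x hx hx0 => by
    obtain ⟨a, rfl⟩ := (hMmem x).1 hx
    exact hμunit a (hne1 a hx0)
  have hinvb : ∀ x ∈ M, x ≠ 0 → ∃ b, ν b = Ring.inverse x := fun x hx hx0 => by
    obtain ⟨a, rfl⟩ := (hMmem x).1 hx
    obtain ⟨b, hb⟩ := hinv a (hne1 a hx0)
    refine ⟨b, ?_⟩
    rw [← Ring.inverse_mul_cancel_left (μ a) (ν b) (hμunit a (hne1 a hx0)), hb, mul_one]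
  have hbinv : ∀ b, ν b ≠ 0 → Ring.inverse (ν b) ∈ M := fun b hb0 => by
    obtain ⟨a, ha, hab⟩ := hline b (fun h => hb0 (by rw [h]; exact map_zero νh))
    obtain ⟨u, hu⟩ := hμunit a ha
    have h1 : ν b = (u⁻¹).val := by
      rw [← hu] at hab
      exact (Units.inv_eq_of_mul_eq_one_right hab).symm
    rw [h1, Ring.inverse_unit, inv_inv, hu]
    exact (hMmem _).2 ⟨a, rfl⟩
  have htri : ∀ x ∈ M, ∀ y ∈ M, x ≠ 0 → y ≠ 0 → x + y ≠ 0 →
      y * Ring.inverse (x + y) * x ∈ M := by
    intro x hx y hy hx0 hy0 hxy0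
    obtain ⟨b, hb⟩ := hinvb x hx hx0
    obtain ⟨b', hb'⟩ := hinvb y hy hy0
    obtain ⟨ux, rfl⟩ := hunit x hx hx0
    obtain ⟨uy, rfl⟩ := hunit y hy hy0
    obtain ⟨us, hus⟩ := hunit _ (add_mem hx hy) hxy0
    rw [Ring.inverse_unit] at hb hb'
    have key : ν (b * b') = ((ux⁻¹ * us * uy⁻¹ : _ˣ) : AddMonoid.End ↥(fix A : AddSubgroup V)) := by
      rw [hνadd, hb, hb', Units.val_mul, Units.val_mul, hus, mul_add, add_mul, Units.inv_mul,
        one_mul, mul_assoc, Units.mul_inv, mul_one, add_comm]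
    have := hbinv (b * b') (by rw [key]; exact Units.ne_zero _)
    rwa [key, Ring.inverse_unit, mul_inv_rev, mul_inv_rev, inv_inv, inv_inv, Units.val_mul,
      Units.val_mul, ← Ring.inverse_unit us, hus, ← mul_assoc] at this
  have hU : ∀ x ∈ M, ∀ z ∈ M, z ≠ 0 → x * Ring.inverse z * x ∈ M := by
    intro x hx z hz hz0
    by_cases hx0 : x = 0
    · rw [hx0, zero_mul, zero_mul]; exact zero_mem _
    by_cases hzx : z - x = 0
    · rw [sub_eq_zero.1 hzx, Ring.mul_inverse_cancel _ (hunit x hx hx0), one_mul]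
      exact hx
    have h := htri (z - x) (sub_mem hz hx) x hx hzx hx0 (by rwa [sub_add_cancel])
    rw [sub_add_cancel, mul_sub, mul_assoc x, Ring.inverse_mul_cancel _ (hunit z hz hz0),
      mul_one] at h
    have h2 := sub_mem hx h
    rwa [sub_sub_cancel] at h2
  have hinvM : ∀ z ∈ M, z ≠ 0 → Ring.inverse z ∈ M := fun z hz hz0 => by
    simpa using hU 1 hone z hz hz0
  let J : JSys (AddMonoid.End ↥(fix A : AddSubgroup V)) p :=
    { M := M
      one_mem := hone
      mul_mul_mem := fun x hx z hz => by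
        by_cases hz0 : z = 0
        · rw [hz0, mul_zero, zero_mul]; exact zero_mem _
        have hi := hinvM z hz hz0
        obtain ⟨u, rfl⟩ := hunit z hz hz0
        rw [Ring.inverse_unit] at hi
        have h := hU x hx _ hi (Units.ne_zero _)
        rwa [Ring.inverse_unit, inv_inv] at h
      isUnit := hunit
      char_eq := AddMonoidHom.ext fun w => by
        show ((p : AddMonoid.End ↥(fix A : AddSubgroup V))) w = 0
        rw [AddMonoid.End.natCast_apply]
        exact Subtype.ext (hp w) }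
  have hcomm : ∀ x ∈ M, ∀ y ∈ M, x * y = y * x := fun x hx y hy => jordan_comm J hx hy
  let F : Subring (AddMonoid.End ↥(fix A : AddSubgroup V)) :=
    { carrier := M
      zero_mem' := zero_mem _
      add_mem' := fun hx hy => add_mem hx hy
      neg_mem' := fun hx => neg_mem hx
      one_mem' := hone
      mul_mem' := fun hx hy => J.mul_mem hx hy (hcomm _ hx _ hy) }
  have hF : J.Good F := ⟨fun x hx => hx, fun x hx y hy => hcomm x hx y hy⟩
  letI : Field ↥F := hF.field
  haveI : Fintype ↥F := Fintype.ofFinite _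
  have hνM : ∀ b, ν b ∈ M := fun b => by
    by_cases hb : b = 1
    · rw [hb, show ν 1 = 0 from map_zero νh]; exact zero_mem _
    · obtain ⟨a, ha, hab⟩ := hline b hb
      obtain ⟨u, hu⟩ := hμunit a ha
      have h1 : ν b = (u⁻¹).val := by
        rw [← hu] at hab
        exact (Units.inv_eq_of_mul_eq_one_right hab).symm
      rw [h1, ← Ring.inverse_unit, hu]
      exact hinvM _ ((hMmem _).2 ⟨a, rfl⟩) (hu ▸ Units.ne_zero u)
  have hcard : Nat.card ↥F = q := by
    rw [← P.cardA]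
    exact (Nat.card_congr (Equiv.ofInjective μh (fun a a' h => hμinj h))).symm
  let Φ : ↥F ≃ Carrier (Nat.card ↥F) := Finite.equivFin ↥F
  letI : Field (Carrier (Nat.card ↥F)) := Φ.symm.field
  let θ : Carrier (Nat.card ↥F) ≃+* ↥F :=
    { Φ.symm with
      map_mul' := fun x y => Φ.symm.apply_symm_apply _
      map_add' := fun x y => Φ.symm.apply_symm_apply _ }
  obtain ⟨ρ, ψ, h⟩ := P.exists_coords (F := Carrier (Nat.card ↥F))
    (by rw [← hcard]; exact (Nat.card_congr Φ).symm) e (F.subtype.comp (θ : Carrier (Nat.card ↥F) →+* ↥F))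
    (fun a => θ.symm ⟨μ a, (hMmem _).2 ⟨a, rfl⟩⟩) (fun b => θ.symm ⟨ν b, hνM b⟩)
    (fun a => congrArg Subtype.val (θ.apply_symm_apply _))
    (fun b => congrArg Subtype.val (θ.apply_symm_apply _))
    (fun y => ((hMmem (θ y).1).1 (θ y).2).imp fun a ha =>
      θ.injective ((θ.apply_symm_apply _).trans (Subtype.ext ha)))
    (fun y => by
      suffices h : ∀ x : ↥F, ∃ b, (⟨ν b, hνM b⟩ : ↥F) = x from
        (h (θ y)).imp fun b hb => θ.injective ((θ.apply_symm_apply _).trans hb)
      intro x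
      by_cases hx : x.1 = 0
      · exact ⟨1, Subtype.ext ((map_zero νh).trans hx.symm)⟩
      obtain ⟨u, hu⟩ := hunit _ x.2 hx
      obtain ⟨b, hb⟩ := hinvb _ (hinvM _ x.2 hx) (by
        rw [← hu, Ring.inverse_unit]
        exact Units.ne_zero _)
      refine ⟨b, Subtype.ext (hb.trans ?_)⟩
      rw [← hu, Ring.inverse_unit, Ring.inverse_unit, inv_inv])
    hfaith hgen
  exact ⟨Carrier (Nat.card ↥F), inferInstance, inferInstance, ρ, ψ, h⟩

end Pair

end Cfsg.Agent.FFSL2
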