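import Cfsg.Agent.Lib.Thompson.FFSL2.Plane

/-!
A `p`-minimal group generated by any two opposite conjugates of a minimal quadratic offender, whose
Sylow fixed points are not centralised by the whole group, acts as `SL₂(q)` on the natural module.
-/

set_option autoImplicit false
set_option linter.unusedSectionVars false
set_option linter.style.haveILetI false

namespace Cfsg.Agent.FFSL2

open scoped MatrixGroups
open Pointwise

variable {H : Type*} [Group H] [Finite H] {V : Type*} [AddCommGroup V] [Finite V]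
  [DistribMulAction H V] {p : ℕ} [hpp : Fact p.Prime]

/-- A minimal offender in a `p`-minimal group. -/
structure MinConf (V : Type*) [AddCommGroup V] [DistribMulAction H V] (T : Sylow p H)
    (M A : Subgroup H) : Prop where
  ne_top : M ≠ ⊤
  le_M : (T : Subgroup H) ≤ M
  uniq : ∀ K : Subgroup H, (T : Subgroup H) ≤ K → K ≠ ⊤ → K ≤ M
  not_normal : ¬ (T : Subgroup H).Normal
  le_T : A ≤ (T : Subgroup H)
  ne_bot : A ≠ ⊥
  comm : ∀ a ∈ A, ∀ b ∈ A, a * b = b * a
  quad : ∀ a ∈ A, ∀ v : V, a • v - v ∈ (fix A : AddSubgroup V)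
  le_card : Nat.card V ≤ Nat.card ↥A * Nat.card ↥(fix A : AddSubgroup V)
  strict : ∀ A₀ : Subgroup H, A₀ ≤ A → A₀ ≠ ⊥ → A₀ ≠ A →
    Nat.card ↥A₀ * Nat.card ↥(fix A₀ : AddSubgroup V) <
      Nat.card ↥A * Nat.card ↥(fix A : AddSubgroup V)
  gen : ∀ x, x ∉ M → A ⊔ cj x A = ⊤
  fix_T : ¬ (fix (T : Subgroup H) : AddSubgroup V) ≤ fix (⊤ : Subgroup H)

theorem fix_mono {A B : Subgroup H} (h : A ≤ B) : (fix B : AddSubgroup V) ≤ fix A :=
  fun _ hv a ha => hv a (h ha)

theorem cj_eq_cj_iff' {M : Subgroup H} (hnorm : ∀ z, cj z M = M → z ∈ M) {g g' : H} :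
    cj g M = cj g' M ↔ g'⁻¹ * g ∈ M := by
  constructor
  · intro h
    exact hnorm _ (by rw [cj_mul, h, ← cj_mul, inv_mul_cancel, cj_one])
  · intro h
    conv_lhs => rw [show g = g' * (g'⁻¹ * g) by group, cj_mul, cj_self h]

/-- A `p`-group stabilising a proper subgroup of a finite `p`-group has a fixed point above it. -/
theorem exists_step (hp : ∀ v : V, p • v = 0) {R : Subgroup H} (hR : IsPGroup p ↥R)
    {U : AddSubgroup V} (hU : ∀ r ∈ R, ∀ u ∈ U, r • u ∈ U) (hne : U ≠ ⊤) :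
    ∃ v, v ∉ U ∧ ∀ r ∈ R, r • v - v ∈ U := by
  let act : ↥R →* AddMonoid.End (V ⧸ U) :=
    { toFun := fun r => QuotientAddGroup.map U U (DistribMulAction.toAddMonoidEnd H V (r : H))
        (fun v hv => hU r r.2 v hv)
      map_one' := AddMonoidHom.ext fun v => by
        induction v using QuotientAddGroup.induction_on with
        | H v => exact congrArg QuotientAddGroup.mk (one_smul H v)
      map_mul' := fun a b => AddMonoidHom.ext fun v => by
        induction v using QuotientAddGroup.induction_on with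
        | H v => exact congrArg QuotientAddGroup.mk (mul_smul (a : H) (b : H) v) }
  letI : MulAction ↥R (V ⧸ U) :=
    { smul := fun r v => act r v
      one_smul := fun v => by show act 1 v = v; rw [map_one]; rfl
      mul_smul := fun a b v => by show act (a * b) v = act a (act b v); rw [map_mul]; rfl }
  obtain ⟨v₀, hv₀⟩ : ∃ v : V, v ∉ U := by
    by_contra! h
    exact hne ((AddSubgroup.eq_top_iff' U).2 h)
  have hdvd : p ∣ Nat.card (V ⧸ U) := by
    have h1 : addOrderOf (v₀ : V ⧸ U) = p :=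
      addOrderOf_eq_prime (by rw [← QuotientAddGroup.mk_nsmul, hp]; rfl)
        (by rw [Ne, QuotientAddGroup.eq_zero_iff]; exact hv₀)
    exact h1 ▸ addOrderOf_dvd_natCard (v₀ : V ⧸ U)
  obtain ⟨b, hb, hne'⟩ := hR.exists_fixed_point_of_prime_dvd_card_of_fixed_point (V ⧸ U) hdvd
    (a := 0) (fun r => map_zero (act r))
  induction b using QuotientAddGroup.induction_on with
  | H v =>
    refine ⟨v, fun h => hne' ((QuotientAddGroup.eq_zero_iff v).2 h).symm, fun r hr => ?_⟩
    have h1 : ((r • v : V) : V ⧸ U) = (v : V ⧸ U) := hb ⟨r, hr⟩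
    rw [← QuotientAddGroup.eq_zero_iff, QuotientAddGroup.mk_sub, h1, sub_self]

namespace MinConf

variable {T : Sylow p H} {M A : Subgroup H} (h : MinConf V T M A)
include h

theorem mem_of_syl {z : H} (hz : cj z (T : Subgroup H) ≤ M) : z ∈ M := by
  have hz' : ((z • T : Sylow p H) : Subgroup H) ≤ M := hz
  obtain ⟨m, hm⟩ := MulAction.exists_smul_eq ↥M ((z • T).subtype hz') (T.subtype h.le_M)
  rw [Sylow.smul_subtype] at hm
  have h1 : ((m : H) * z) • T = T := by
    rw [mul_smul]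
    exact Sylow.subtype_injective hm
  have h2 : Subgroup.normalizer ((T : Subgroup H) : Set H) ≤ M :=
    h.uniq _ Subgroup.le_normalizer fun e => h.not_normal (Subgroup.normalizer_eq_top_iff.1 e)
  have h3 : (m : H) * z ∈ M := h2 (Sylow.smul_eq_iff_mem_normalizer.1 h1)
  simpa using M.mul_mem (M.inv_mem m.2) h3

theorem mem_of_cj {z : H} (hz : cj z M = M) : z ∈ M :=
  h.mem_of_syl ((Subgroup.map_mono h.le_M).trans_eq hz)

theorem cj_eq_iff {g g' : H} : cj g M = cj g' M ↔ g'⁻¹ * g ∈ M :=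
  cj_eq_cj_iff' fun _ => h.mem_of_cj

theorem exists_syl {D : Subgroup H} (hD : IsPGroup p ↥D) {g : H} (hle : D ≤ cj g M) :
    ∃ y, cj y M = cj g M ∧ D ≤ cj y (T : Subgroup H) := by
  have hD' : IsPGroup p ↥(cj g⁻¹ D) := hD.map _
  have hle' : cj g⁻¹ D ≤ M :=
    (Subgroup.map_mono hle).trans_eq (by rw [← cj, ← cj_mul, inv_mul_cancel, cj_one])
  have hDM : IsPGroup p ↥((cj g⁻¹ D).subgroupOf M) :=
    hD'.of_equiv (Subgroup.subgroupOfEquivOfLe hle').symm
  obtain ⟨P, hP⟩ := hDM.exists_le_sylow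
  obtain ⟨m, hm⟩ := MulAction.exists_smul_eq ↥M (T.subtype h.le_M) P
  rw [Sylow.smul_subtype] at hm
  refine ⟨g * m, by rw [cj_mul, cj_self m.2], fun d hd => ?_⟩
  have hd' : g⁻¹ * d * g ∈ cj g⁻¹ D := by rw [mem_cj]; simpa [mul_assoc] using hd
  have h2 := hP (show (⟨_, hle' hd'⟩ : ↥M) ∈ (cj g⁻¹ D).subgroupOf M from hd')
  rw [← hm] at h2
  have h3 : g⁻¹ * d * g ∈ cj (m : H) (T : Subgroup H) := h2
  rw [mem_cj] at h3 ⊢
  simpa [mul_assoc] using h3

theorem stab_le {y : H} {v : V} (hv : v ∈ (fix (cj y (T : Subgroup H)) : AddSubgroup V))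
    (hvC : v ∉ (fix (⊤ : Subgroup H) : AddSubgroup V)) {z : H} (hz : z • v = v) : z ∈ cj y M := by
  have h1 : MulAction.stabilizer H (y⁻¹ • v) ≤ M := by
    refine h.uniq _ (fun t ht => (mem_fix_cj.1 hv) t ht) fun e => hvC fun g _ => ?_
    have hg : ∀ g : H, g • y⁻¹ • v = y⁻¹ • v := fun g =>
      MulAction.mem_stabilizer_iff.1 (e ▸ Subgroup.mem_top g)
    have hy := hg y
    rw [smul_inv_smul] at hy
    rw [← hy] at hg
    exact hg g
  rw [mem_cj]
  refine h1 (MulAction.mem_stabilizer_iff.2 ?_)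
  rw [mul_smul, mul_smul, smul_inv_smul, hz]

theorem exists_vec (y : H) : ∃ v ∈ (fix (cj y (T : Subgroup H)) : AddSubgroup V),
    v ∉ (fix (⊤ : Subgroup H) : AddSubgroup V) := by
  obtain ⟨v, hv, hvC⟩ := SetLike.not_le_iff_exists.1 h.fix_T
  refine ⟨y • v, mem_fix_cj.2 (by rwa [inv_smul_smul]), fun hc => hvC ?_⟩
  have e : v = y • v := by
    have := hc y⁻¹ (Subgroup.mem_top _)
    rwa [inv_smul_smul] at this
  rw [e]
  exact hc

theorem exists_not_mem : ∃ x, x ∉ M := by
  by_contra! hh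
  exact h.ne_top ((Subgroup.eq_top_iff' M).2 hh)

theorem gen' {g g' : H} (hne : g⁻¹ * g' ∉ M) : cj g A ⊔ cj g' A = ⊤ := by
  have e : cj g' A = cj g (cj (g⁻¹ * g') A) := by rw [← cj_mul, mul_inv_cancel_left]
  rw [e, cj, cj, ← Subgroup.map_sup, ← cj, h.gen _ hne]
  exact Subgroup.map_top_of_surjective _ (MulAut.conj g).surjective

theorem inf_fix {g g' : H} (hne : g⁻¹ * g' ∉ M) :
    (fix (cj g A) : AddSubgroup V) ⊓ fix (cj g' A) = fix (⊤ : Subgroup H) := by
  refine le_antisymm (fun v hv z _ => ?_) (le_inf (fix_mono le_top) (fix_mono le_top))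
  have h1 : cj g A ⊔ cj g' A ≤ MulAction.stabilizer H v :=
    sup_le (fun a ha => hv.1 a ha) fun a ha => hv.2 a ha
  exact MulAction.mem_stabilizer_iff.1 (h1 (h.gen' hne ▸ Subgroup.mem_top z))

theorem le : A ≤ M := h.le_T.trans h.le_M

theorem not_le_cj {x : H} (hx : x ∉ M) : ¬ A ≤ cj x M := by
  intro hle
  have h1 : (⊤ : Subgroup H) ≤ cj x M := by
    rw [← h.gen x hx]
    exact sup_le hle (Subgroup.map_mono h.le)
  refine h.ne_top ((Subgroup.eq_top_iff' M).2 fun z => ?_)
  have h2 := mem_cj.1 (h1 (Subgroup.mem_top (x * z * x⁻¹)))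
  simpa [mul_assoc] using h2

theorem quad_cj (g : H) {a : H} (ha : a ∈ cj g A) (v : V) :
    a • v - v ∈ (fix (cj g A) : AddSubgroup V) := by
  rw [mem_fix_cj]
  have := h.quad _ (mem_cj.1 ha) (g⁻¹ • v)
  rwa [mul_smul, mul_smul, smul_inv_smul, ← smul_sub] at this

theorem comm_cj (g : H) {a b : H} (ha : a ∈ cj g A) (hb : b ∈ cj g A) : a * b = b * a := by
  have h1 := h.comm _ (mem_cj.1 ha) _ (mem_cj.1 hb)
  have h2 := congrArg (fun t => g * t * g⁻¹) h1
  simpa [mul_assoc] using h2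

variable (hp : ∀ v : V, p • v = 0)
include hp

/-- An offender meets a foreign conjugate of `M` trivially. -/
theorem inf_eq_bot {x : H} (hx : x ∉ M) : A ⊓ cj x M = ⊥ := by
  classical
  obtain ⟨x₀, hx₀, hmax⟩ := Set.exists_max_image {x : H | x ∉ M}
    (fun x => Nat.card ↥(A ⊓ cj x M)) (Set.toFinite _) ⟨x, hx⟩
  suffices hs : A ⊓ cj x₀ M = ⊥ by
    refine Subgroup.card_eq_one.1 (le_antisymm ?_ Nat.card_pos)
    exact (hmax x hx).trans_eq (by rw [hs, Subgroup.card_bot])
  by_contra hne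
  set A₀ := A ⊓ cj x₀ M with hA₀
  have hA₀ne : A₀ ≠ A := fun e => h.not_le_cj hx₀ (inf_eq_left.1 e)
  obtain ⟨y, hy, hA₀y⟩ := h.exists_syl
    (T.isPGroup'.to_le ((inf_le_left : A₀ ≤ A).trans h.le_T)) (inf_le_right : A₀ ≤ cj x₀ M)
  have hyM : y ∉ M := fun e => hx₀ (h.mem_of_cj (hy.symm.trans (cj_self e)))
  set R := cj y (T : Subgroup H) with hR
  have hRp : IsPGroup p ↥R := T.isPGroup'.map _
  set B := cj y A with hB
  have hBR : B ≤ R := Subgroup.map_mono h.le_T
  set C : AddSubgroup V := fix (⊤ : Subgroup H) with hC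
  have hCinv : ∀ z : H, ∀ v ∈ C, z • v = v := fun z v hv => hv z (Subgroup.mem_top z)
  have hAB : (fix A : AddSubgroup V) ⊓ fix B = C := by
    have := h.inf_fix (g := 1) (g' := y) (by simpa using hyM)
    rwa [cj_one] at this
  -- a vector witnessing that conjugates of `A₀` under `B` lie in `M`
  haveI : Finite (AddSubgroup V) :=
    Finite.of_injective (fun K : AddSubgroup V => (K : Set V)) SetLike.coe_injective
  obtain ⟨U, ⟨hCU, hUA, hUR⟩, hUmax⟩ := Set.exists_max_image
    {U : AddSubgroup V | C ≤ U ∧ U ⊓ fix A ≤ C ∧ ∀ r ∈ R, ∀ u ∈ U, r • u ∈ U}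
    (fun U => Nat.card ↥U) (Set.toFinite _)
    ⟨C, le_rfl, inf_le_left, fun r _ u hu => by rwa [hCinv r u hu]⟩
  have hUtop : U ≠ ⊤ := by
    intro e
    rw [e, top_inf_eq] at hUA
    exact h.fix_T ((fix_mono h.le_T).trans hUA)
  obtain ⟨v, hvU, hvR⟩ := exists_step hp hRp hUR hUtop
  set U' := U ⊔ AddSubgroup.zmultiples v with hU'
  have hstep : ∀ w ∈ U', ∀ r ∈ R, r • w - w ∈ U := by
    intro w hw r hr
    obtain ⟨u, hu, z, hz, rfl⟩ := AddSubgroup.mem_sup.1 hw
    obtain ⟨k, rfl⟩ := AddSubgroup.mem_zmultiples_iff.1 hz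
    have e : r • (k • v) = k • (r • v) := map_zsmul (DistribSMul.toAddMonoidHom V r) k v
    rw [smul_add, e, add_sub_add_comm, ← zsmul_sub]
    exact add_mem (sub_mem (hUR r hr u hu) hu) (U.zsmul_mem (hvR r hr) k)
  obtain ⟨c, ⟨hcU, hcA⟩, hcC⟩ : ∃ c ∈ U' ⊓ fix A, c ∉ C := by
    by_contra! hcon
    have h1 := hUmax U' ⟨hCU.trans le_sup_left, hcon, fun r hr w hw => by
      have h2 := add_mem ((le_sup_left : U ≤ U') (hstep w hw r hr)) hw
      rwa [sub_add_cancel] at h2⟩
    have h3 := AddSubgroup.eq_of_le_of_card_ge (le_sup_left : U ≤ U') h1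
    exact hvU (h3 ▸ (le_sup_right : _ ≤ U') (AddSubgroup.mem_zmultiples v))
  have hconj : ∀ a ∈ A₀, ∀ b ∈ B, b⁻¹ * a * b ∈ M := by
    intro a ha b hb
    have haA : a ∈ A := ha.1
    set w := b • c - c with hw
    have hwU : w ∈ U := hstep c hcU b (hBR hb)
    have hz : a • w - w ∈ C := hUA (AddSubgroup.mem_inf.2 ⟨sub_mem (hUR a (hA₀y ha) w hwU) hwU, h.quad a haA w⟩)
    set z := a • w - w with hzdef
    have e1 : a • (b • c) = b • c + z := by
      rw [hzdef, hw, smul_sub, hcA a haA]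
      abel
    by_contra hxM
    set x₁ := b⁻¹ * a * b with hx₁
    have e2 : x₁ • c = c + z := by
      rw [hx₁, mul_smul, mul_smul, e1, smul_add, inv_smul_smul, hCinv _ _ hz]
    have h4 : c ∈ (fix A : AddSubgroup V) ⊓ fix (cj x₁ A) := by
      refine ⟨hcA, mem_fix_cj.2 ?_⟩
      have e3 : x₁⁻¹ • c = c - z := by
        rw [inv_smul_eq_iff, smul_sub, e2, hCinv _ _ hz, add_sub_cancel_right]
      rw [e3]
      exact sub_mem hcA (fix_mono le_top hz)
    have h5 := h.inf_fix (g := 1) (g' := x₁) (by simpa using hxM)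
    rw [cj_one] at h5
    exact hcC (h5.le h4)
  -- a common fixed vector of all these conjugates
  set D : Subgroup H := Subgroup.closure {z | ∃ a ∈ A₀, ∃ b ∈ B, z = b⁻¹ * a * b} with hD
  have hDM : D ≤ M := (Subgroup.closure_le _).2 fun z ⟨a, ha, b, hb, e⟩ => e ▸ hconj a ha b hb
  have hDR : D ≤ R := (Subgroup.closure_le _).2 fun z ⟨a, ha, b, hb, e⟩ =>
    e ▸ R.mul_mem (R.mul_mem (R.inv_mem (hBR hb)) (hA₀y ha)) (hBR hb)
  obtain ⟨m, hm, hDm⟩ := h.exists_syl (hRp.to_le hDR) (g := 1) (by rwa [cj_one])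
  rw [cj_one] at hm
  obtain ⟨e₀, he₀, he₀C⟩ := h.exists_vec m
  have hfixD : ∀ a ∈ A₀, ∀ b ∈ B, (b⁻¹ * a * b) • e₀ = e₀ := fun a ha b hb =>
    he₀ _ (hDm (Subgroup.subset_closure ⟨a, ha, b, hb, rfl⟩))
  have hu : ∀ b ∈ B, b • e₀ - e₀ ∈ (fix A₀ : AddSubgroup V) := by
    intro b hb a ha
    have e1 : a • (b • e₀) = b • e₀ := by
      have := hfixD a ha b hb
      rwa [mul_smul, mul_smul, inv_smul_eq_iff] at this
    have e2 : a • e₀ = e₀ := by simpa using hfixD a ha 1 B.one_mem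
    rw [smul_sub, e1, e2]
  let Φ : ↥(fix A : AddSubgroup V) × ↥B → ↥(fix A₀ : AddSubgroup V) := fun q =>
    ⟨(q.1 : V) + ((q.2 : H) • e₀ - e₀),
      add_mem (fix_mono inf_le_left q.1.2) (hu _ q.2.2)⟩
  have hfib : ∀ q q', Φ q = Φ q' → ((q'.2 : H)⁻¹ * (q.2 : H)) ∈ M := by
    intro q q' e
    have e' : (q.1 : V) + ((q.2 : H) • e₀ - e₀) = (q'.1 : V) + ((q'.2 : H) • e₀ - e₀) :=
      congrArg Subtype.val e
    have hd : (q.2 : H) • e₀ - (q'.2 : H) • e₀ ∈ C := by
      rw [← hAB]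
      have h1 : (q.2 : H) • e₀ - (q'.2 : H) • e₀ = (q'.1 : V) - q.1 := by
        linear_combination (norm := abel) e'
      refine AddSubgroup.mem_inf.2 ⟨h1 ▸ sub_mem q'.1.2 q.1.2, ?_⟩
      have h2 : (q.2 : H) • e₀ - (q'.2 : H) • e₀ =
          ((q.2 : H) • e₀ - e₀) - ((q'.2 : H) • e₀ - e₀) := by abel
      rw [h2]
      exact sub_mem (h.quad_cj y q.2.2 e₀) (h.quad_cj y q'.2.2 e₀)
    set d := (q'.2 : H)⁻¹ * (q.2 : H) with hddef
    set z := (q.2 : H) • e₀ - (q'.2 : H) • e₀ with hzdef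
    have e2 : d • e₀ = e₀ + z := by
      rw [hddef, mul_smul, show (q.2 : H) • e₀ = (q'.2 : H) • e₀ + z by rw [hzdef]; abel,
        smul_add, inv_smul_smul, hCinv _ _ hd]
    have h3 : cj d (cj m (T : Subgroup H)) ≤ M := by
      intro t ht
      have h4 : t • (d • e₀) = d • e₀ := by
        have := he₀ _ (mem_cj.1 ht)
        rw [mul_smul, mul_smul, inv_smul_eq_iff] at this
        exact this
      rw [e2, smul_add, hCinv _ _ hd, add_left_inj] at h4
      exact hm ▸ h.stab_le he₀ he₀C h4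
    rw [← cj_mul] at h3
    have h5 := h.mem_of_syl h3
    have hmM : m ∈ M := h.mem_of_cj hm
    simpa using M.mul_mem h5 (M.inv_mem hmM)
  have hcount : Nat.card ↥(fix A : AddSubgroup V) * Nat.card ↥B ≤
      Nat.card ↥(fix A₀ : AddSubgroup V) * Nat.card ↥(B ⊓ M) := by
    rw [← Nat.card_prod, ← Nat.card_prod]
    let g : ↥(fix A : AddSubgroup V) × ↥B → ↥(fix A₀ : AddSubgroup V) × ↥(B ⊓ M) := fun q =>
      (Φ q, ⟨((Function.invFun Φ (Φ q)).2 : H)⁻¹ * (q.2 : H),
        B.mul_mem (B.inv_mem (Function.invFun Φ (Φ q)).2.2) q.2.2,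
        hfib q _ (Function.invFun_eq ⟨q, rfl⟩).symm⟩)
    refine Nat.card_le_card_of_injective g ?_
    intro q q' e
    have e1 : Φ q = Φ q' := congrArg Prod.fst e
    have e2 : ((Function.invFun Φ (Φ q)).2 : H)⁻¹ * (q.2 : H) =
        ((Function.invFun Φ (Φ q')).2 : H)⁻¹ * (q'.2 : H) :=
      congrArg (fun r => ((r.2 : ↥(B ⊓ M)) : H)) e
    rw [e1, mul_right_inj] at e2
    have e3 : (q.1 : V) + ((q.2 : H) • e₀ - e₀) = (q'.1 : V) + ((q'.2 : H) • e₀ - e₀) :=
      congrArg Subtype.val e1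
    rw [e2, add_left_inj] at e3
    exact Prod.ext (Subtype.ext e3) (Subtype.ext e2)
  have hBM : Nat.card ↥(B ⊓ M) ≤ Nat.card ↥A₀ := by
    have e : B ⊓ M = cj y (A ⊓ cj y⁻¹ M) := by
      rw [cj, Subgroup.map_inf _ _ _ (MulAut.conj y).injective, ← cj, ← cj, ← cj_mul,
        mul_inv_cancel, cj_one]
    rw [e, card_cj]
    exact hmax y⁻¹ (fun e' => hyM (by simpa using M.inv_mem e'))
  have hs := h.strict A₀ inf_le_left hne hA₀ne
  rw [hB, card_cj] at hcount
  refine absurd hs (not_lt.2 ?_)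
  calc Nat.card ↥A * Nat.card ↥(fix A : AddSubgroup V)
      ≤ Nat.card ↥(fix A₀ : AddSubgroup V) * Nat.card ↥(cj y A ⊓ M) := by
        rw [mul_comm]; exact hcount
    _ ≤ Nat.card ↥(fix A₀ : AddSubgroup V) * Nat.card ↥A₀ := Nat.mul_le_mul_left _ hBM
    _ = _ := mul_comm _ _

omit hp

open scoped Classical in
/-- The conjugate of `M` belonging to a conjugate of `A`. -/
noncomputable def lab (_h : MinConf V T M A) (K : Subgroup H) : Subgroup H :=
  if e : ∃ g, K = cj g A then cj e.choose M else ⊥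

theorem lab_cj (g : H) : h.lab (cj g A) = cj g M := by
  have e : ∃ g', cj g A = cj g' A := ⟨g, rfl⟩
  rw [lab, dif_pos e, h.cj_eq_iff]
  by_contra hne
  have h1 := h.gen' hne
  rw [e.choose_spec.symm, sup_idem] at h1
  refine h.not_normal ⟨fun t ht z => ?_⟩
  have hz : z ∈ cj g A := h1.ge (Subgroup.mem_top z)
  have ht' : t ∈ cj g A := h1.ge (Subgroup.mem_top t)
  rw [h.comm_cj g hz ht', mul_inv_cancel_right]
  exact ht

theorem lab_ne {g g' : H} : h.lab (cj g A) ≠ h.lab (cj g' A) ↔ g⁻¹ * g' ∉ M := by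
  rw [h.lab_cj, h.lab_cj, Ne, eq_comm, h.cj_eq_iff]

include hp

/-- The system of conjugates. -/
noncomputable def sys : Sys (H := H) (V := V) (Nat.card ↥A) (Subgroup H) where
  fam := Set.range fun g => cj g A
  lab := h.lab
  card := by rintro _ ⟨g, rfl⟩; exact card_cj g A
  quad := by rintro _ ⟨g, rfl⟩ a ha v; exact h.quad_cj g ha v
  le := by
    rintro _ ⟨g, rfl⟩
    refine h.le_card.trans_eq ?_
    congr 1
    exact Nat.card_congr
      { toFun := fun v => ⟨g • (v : V), mem_fix_cj.2 (by rw [inv_smul_smul]; exact v.2)⟩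
        invFun := fun w => ⟨g⁻¹ • (w : V), mem_fix_cj.1 w.2⟩
        left_inv := fun v => Subtype.ext (inv_smul_smul g (v : V))
        right_inv := fun w => Subtype.ext (smul_inv_smul g (w : V)) }
  conj_mem := by
    rintro _ - _ ⟨g, rfl⟩ a -
    exact ⟨a * g, cj_mul a g A⟩
  lab_conj := by
    rintro _ - _ ⟨g, rfl⟩ _ ⟨g', rfl⟩ a - e
    simp only [← cj_mul, h.lab_cj] at e ⊢
    rw [cj_mul, cj_mul, e]
  free := by
    rintro _ ⟨g, rfl⟩ _ ⟨g', rfl⟩ hne a ha ha1 e
    simp only at hne ha e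
    rw [h.lab_ne] at hne
    rw [← cj_mul, h.lab_cj, h.lab_cj, h.cj_eq_iff, ← mul_assoc, ← mem_cj] at e
    have h1 : g⁻¹ * a * g ∈ A ⊓ cj (g⁻¹ * g') M := by
      refine ⟨mem_cj.1 ha, mem_cj.2 ?_⟩
      simpa [mul_assoc] using mem_cj.1 e
    rw [h.inf_eq_bot hp hne, Subgroup.mem_bot] at h1
    refine ha1 ?_
    have := congrArg (fun z => g * z * g⁻¹) h1
    simpa [mul_assoc] using this
  noncomm := by
    rintro _ ⟨g, rfl⟩ _ ⟨g', rfl⟩ hne hcomm
    simp only at hne hcomm
    rw [h.lab_ne] at hne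
    refine h.not_normal ⟨fun t ht z => ?_⟩
    let Z : Subgroup H := Subgroup.center H
    have hz : z ∈ Z := by
      have hle : cj g A ⊔ cj g' A ≤ Z := by
        refine sup_le (fun a ha => Subgroup.mem_center_iff.2 fun w => ?_)
          (fun b hb => Subgroup.mem_center_iff.2 fun w => ?_)
        · have hw : cj g A ⊔ cj g' A ≤ Subgroup.centralizer {a} := sup_le
            (fun x hx => Subgroup.mem_centralizer_singleton_iff.2 (h.comm_cj g hx ha))
            (fun x hx => Subgroup.mem_centralizer_singleton_iff.2 (hcomm a ha x hx).symm)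
          exact Subgroup.mem_centralizer_singleton_iff.1 (hw (h.gen' hne ▸ Subgroup.mem_top w))
        · have hw : cj g A ⊔ cj g' A ≤ Subgroup.centralizer {b} := sup_le
            (fun x hx => Subgroup.mem_centralizer_singleton_iff.2 (hcomm x hx b hb))
            (fun x hx => Subgroup.mem_centralizer_singleton_iff.2 (h.comm_cj g' hx hb))
          exact Subgroup.mem_centralizer_singleton_iff.1 (hw (h.gen' hne ▸ Subgroup.mem_top w))
      exact hle (h.gen' hne ▸ Subgroup.mem_top z)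
    rw [← Subgroup.mem_center_iff.1 hz t, mul_inv_cancel_right]
    exact ht

theorem mem_fam (g : H) : cj g A ∈ (h.sys hp).fam := ⟨g, rfl⟩

theorem self_mem : A ∈ (h.sys hp).fam := ⟨1, cj_one A⟩

theorem exists_opp {E : Subgroup H} (hE : E ∈ (h.sys hp).fam) :
    ∃ E' ∈ (h.sys hp).fam, (h.sys hp).lab E ≠ (h.sys hp).lab E' := by
  obtain ⟨g, rfl⟩ := hE
  obtain ⟨x, hx⟩ := h.exists_not_mem
  exact ⟨_, h.mem_fam hp (g * x), h.lab_ne.2 (by simpa using hx)⟩

theorem inf_fam {E E' : Subgroup H} (hE : E ∈ (h.sys hp).fam) (hE' : E' ∈ (h.sys hp).fam)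
    (hne : (h.sys hp).lab E ≠ (h.sys hp).lab E') :
    (fix E : AddSubgroup V) ⊓ fix E' = fix (⊤ : Subgroup H) := by
  obtain ⟨g, rfl⟩ := hE
  obtain ⟨g', rfl⟩ := hE'
  exact h.inf_fix (h.lab_ne.1 hne)

variable (hfaith : ∀ z : H, (∀ v : V, z • v = v) → z = 1)
include hfaith

theorem exists_fix_not {E F : Subgroup H} (hE : E ∈ (h.sys hp).fam) (hF : F ∈ (h.sys hp).fam)
    (hne : (h.sys hp).lab E ≠ (h.sys hp).lab F) :
    ∃ v ∈ (fix F : AddSubgroup V), v ∉ (fix E : AddSubgroup V) := by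
  refine SetLike.not_le_iff_exists.1 fun hle => ?_
  exact (h.sys hp).fix_ne hfaith hE hF hne (AddSubgroup.eq_of_le_of_card_ge hle (by
    rw [((h.sys hp).card_fix hfaith hE hF hne).1, ((h.sys hp).card_fix hfaith hF hE hne.symm).1,
      inf_comm])).symm

/-- Equally labelled members have the same fixed space. -/
theorem fix_eq_of_lab {E E' : Subgroup H} (hE : E ∈ (h.sys hp).fam) (hE' : E' ∈ (h.sys hp).fam)
    (he : (h.sys hp).lab E = (h.sys hp).lab E') : (fix E : AddSubgroup V) = fix E' := by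
  suffices hle : ∀ {E E' : Subgroup H}, E ∈ (h.sys hp).fam → E' ∈ (h.sys hp).fam →
      (h.sys hp).lab E = (h.sys hp).lab E' → (fix E : AddSubgroup V) ≤ fix E' from
    le_antisymm (hle hE hE' he) (hle hE' hE he.symm)
  clear hE hE' he E E'
  intro E E' hE hE' he v hv
  set S := h.sys hp
  obtain ⟨F, hF, hne⟩ := h.exists_opp hp hE
  by_cases hvF : v ∈ (fix F : AddSubgroup V)
  · exact fix_mono le_top (h.inf_fam hp hE hF hne ▸ (⟨hv, hvF⟩ : v ∈ (fix E : AddSubgroup V) ⊓ fix F))
  have hne' : S.lab F ≠ S.lab E' := he ▸ hne.symm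
  obtain ⟨a, ha, hva⟩ := S.cover hfaith hF hE' hne' hvF
  by_cases ha1 : a = 1
  · rwa [ha1, cj_one] at hva
  exfalso
  have hl : S.lab E ≠ S.lab (cj a E') := fun e =>
    S.free F hF E' hE' hne' a ha ha1 (e.symm.trans he)
  exact hvF (fix_mono le_top
    (h.inf_fam hp hE (S.conj_mem F hF E' hE' a ha) hl ▸ (⟨hv, hva⟩ : v ∈ (fix E : AddSubgroup V) ⊓ _)))

theorem exists_eq_comm {E F : Subgroup H} (hE : E ∈ (h.sys hp).fam) (hF : F ∈ (h.sys hp).fam)
    (hne : (h.sys hp).lab E ≠ (h.sys hp).lab F) {v : V} (hv : v ∈ (fix F : AddSubgroup V))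
    (hvE : v ∉ (fix E : AddSubgroup V)) {w : V} (hw : w ∈ (fix E : AddSubgroup V)) :
    ∃ a ∈ E, ∃ z ∈ (fix (⊤ : Subgroup H) : AddSubgroup V), w = a • v - v + z := by
  set S := h.sys hp
  set C : AddSubgroup V := fix (⊤ : Subgroup H) with hC
  let f : ↥E × ↥C → ↥(fix E : AddSubgroup V) := fun q =>
    ⟨(q.1 : H) • v - v + (q.2 : V), add_mem (S.quad E hE _ q.1.2 v) (fix_mono le_top q.2.2)⟩
  have hf : Function.Injective f := by
    rintro ⟨a, c⟩ ⟨a', c'⟩ e
    have e0 : (a : H) • v - v + (c : V) = (a' : H) • v - v + (c' : V) := congrArg Subtype.val e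
    set d : H := (a' : H)⁻¹ * (a : H) with hd
    have hdm : d ∈ E := E.mul_mem (E.inv_mem a'.2) a.2
    have hcC : (c' : V) - c ∈ C := sub_mem c'.2 c.2
    have e1 : (a : H) • v = (a' : H) • v + ((c' : V) - c) := by
      linear_combination (norm := abel) e0
    have e2 : d • v - v = (c' : V) - c := by
      rw [hd, mul_smul, e1, smul_add, inv_smul_smul, hcC _ (Subgroup.mem_top _)]
      abel
    have hd1 : d = 1 := by
      by_contra hd1
      exact S.comm_not_mem hfaith hE hF hne hv hvE hdm hd1 (e2 ▸ fix_mono le_top hcC)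
    rw [hd1, one_smul, sub_self, eq_comm, sub_eq_zero] at e2
    have ha : a = a' := Subtype.ext (by
      rw [hd, inv_mul_eq_one] at hd1
      exact hd1.symm)
    subst ha
    exact Prod.ext rfl (Subtype.ext e2.symm)
  have hb := (Nat.bijective_iff_injective_and_card f).2 ⟨hf, by
    rw [Nat.card_prod, S.card E hE, (S.card_fix hfaith hE hF hne).1, h.inf_fam hp hE hF hne]⟩
  obtain ⟨⟨a, c⟩, e⟩ := hb.2 ⟨w, hw⟩
  exact ⟨a, a.2, c, c.2, (congrArg Subtype.val e).symm⟩

/-- There is no nontrivial normal `p`-subgroup. -/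
theorem no_normal {Q : Subgroup H} (hn : Q.Normal) (hQ : IsPGroup p ↥Q) : Q = ⊥ := by
  set S := h.sys hp
  have hQT : ∀ g, Q ≤ cj g (T : Subgroup H) := by
    intro g q hq
    obtain ⟨P, hP⟩ := hQ.exists_le_sylow
    obtain ⟨z, hz⟩ := MulAction.exists_smul_eq H P T
    rw [mem_cj]
    have hzP : cj z (P : Subgroup H) = (T : Subgroup H) := congrArg (fun P : Sylow p H => (P : Subgroup H)) hz
    rw [← hzP, mem_cj]
    exact hP (by simpa [mul_assoc] using hn.conj_mem q hq (z⁻¹ * g⁻¹))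
  set U : AddSubgroup V := fix Q with hU
  have hUinv : ∀ z : H, ∀ v ∈ U, z • v ∈ U := by
    intro z v hv q hq
    have := hv _ (hn.conj_mem q hq z⁻¹)
    rw [inv_inv, mul_smul, mul_smul, inv_smul_eq_iff] at this
    exact this
  obtain ⟨x, hx⟩ := h.exists_not_mem
  obtain ⟨v, hv, hvC⟩ := h.exists_vec x
  have hAm := h.self_mem hp
  have hBm := h.mem_fam hp x
  have hne : S.lab A ≠ S.lab (cj x A) := by
    have := (h.lab_ne (g := 1) (g' := x)).2 (by simpa using hx)
    rwa [cj_one] at this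
  have hvB : v ∈ (fix (cj x A) : AddSubgroup V) := fix_mono (Subgroup.map_mono h.le_T) hv
  have hvA : v ∉ (fix A : AddSubgroup V) := fun e =>
    hvC (h.inf_fam hp hAm hBm hne ▸ ⟨e, hvB⟩)
  have hAU : (fix A : AddSubgroup V) ≤ U := by
    intro w hw
    obtain ⟨a, -, z, hz, rfl⟩ := h.exists_eq_comm hp hfaith hAm hBm hne hvB hvA hw
    have hvU : v ∈ U := fix_mono (hQT x) hv
    exact add_mem (sub_mem (hUinv a v hvU) hvU) (fix_mono le_top hz)
  have hBU : (fix (cj x A) : AddSubgroup V) ≤ U := fun w hw => by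
    simpa using hUinv x _ (hAU (mem_fix_cj.1 hw))
  have htop : U = ⊤ := by
    rw [eq_top_iff, ← (S.card_fix hfaith hAm hBm hne).2]
    exact sup_le hAU hBU
  refine (Subgroup.eq_bot_iff_forall _).2 fun q hq => hfaith q fun w => ?_
  exact (htop.symm ▸ AddSubgroup.mem_top w : w ∈ U) q hq

/-- Only the identity is trivial modulo the centralised vectors. -/
theorem eq_one_of_sub_mem {d : H}
    (hd : ∀ v : V, d • v - v ∈ (fix (⊤ : Subgroup H) : AddSubgroup V)) : d = 1 := by
  set C : AddSubgroup V := fix (⊤ : Subgroup H) with hC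
  have hCinv : ∀ z : H, ∀ v ∈ C, z • v = v := fun z v hv => hv z (Subgroup.mem_top z)
  let N : Subgroup H :=
    { carrier := {n | ∀ v : V, n • v - v ∈ C}
      one_mem' := fun v => by rw [one_smul, sub_self]; exact zero_mem _
      mul_mem' := fun {a b} ha hb v => by
        have := add_mem (ha (b • v)) (hb v)
        rwa [sub_add_sub_cancel, ← mul_smul] at this
      inv_mem' := fun {a} ha v => by
        have := neg_mem (ha (a⁻¹ • v))
        rwa [smul_inv_smul, neg_sub] at this }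
  have hn : N.Normal := ⟨fun n hnN z v => by
    have h1 := hnN (z⁻¹ • v)
    have h2 : (z * n * z⁻¹) • v - v = z • (n • z⁻¹ • v - z⁻¹ • v) := by
      rw [mul_smul, mul_smul, smul_sub, smul_inv_smul]
    rw [h2, hCinv z _ h1]
    exact h1⟩
  have hNp : IsPGroup p ↥N := fun n => ⟨1, Subtype.ext (hfaith _ fun v => by
    have key : ∀ k : ℕ, (n : H) ^ k • v = v + k • ((n : H) • v - v) := by
      intro k
      induction k with
      | zero => simp
      | succ k ih =>
        rw [pow_succ', mul_smul, ih, smul_add,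
          hCinv _ _ (AddSubgroup.nsmul_mem _ (n.2 v) k), succ_nsmul]
        abel
    rw [pow_one, SubmonoidClass.coe_pow, key, hp, add_zero])⟩
  have h1 : d ∈ N := hd
  rw [h.no_normal hp hfaith hn hNp] at h1
  exact Subgroup.mem_bot.1 h1

theorem small : (h.sys hp).Small := by
  intro A₁ h1 A₂ h2 he _ _
  set S := h.sys hp
  obtain ⟨B, hB, hAB⟩ := h.exists_opp hp h1
  have hW := h.fix_eq_of_lab hp hfaith h1 h2 he
  have hle : A₂ ≤ A₁ := by
    intro a' ha'
    have hne2 : S.lab A₂ ≠ S.lab B := he ▸ hAB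
    have hEm : cj a' B ∈ S.fam := S.conj_mem A₂ h2 B hB a' ha'
    have hAE : S.lab A₁ ≠ S.lab (cj a' B) := he ▸ S.lab_cj_ne hfaith h2 hB hne2 ha'
    obtain ⟨v, hv, hvA⟩ := h.exists_fix_not hp hfaith h1 hEm hAE
    obtain ⟨a, ha, hva⟩ := S.cover hfaith h1 hB hAB hvA
    have haBm : cj a B ∈ S.fam := S.conj_mem A₁ h1 B hB a ha
    have hl : S.lab (cj a' B) = S.lab (cj a B) := by
      by_contra hne
      exact hvA (fix_mono le_top (h.inf_fam hp hEm haBm hne ▸
        (⟨hv, hva⟩ : v ∈ (fix (cj a' B) : AddSubgroup V) ⊓ fix (cj a B))))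
    have hfix := h.fix_eq_of_lab hp hfaith hEm haBm hl
    set d := a⁻¹ * a' with hd
    have hdW : ∀ w ∈ (fix A₁ : AddSubgroup V), d • w = w := fun w hw => by
      rw [hd, mul_smul, (hW ▸ hw : w ∈ (fix A₂ : AddSubgroup V)) a' ha', hw _ (A₁.inv_mem ha)]
    have hdV : ∀ v : V, d • v - v ∈ (fix A₁ : AddSubgroup V) := fun v => by
      have e1 := S.quad A₁ h1 _ (A₁.inv_mem ha) (a' • v)
      have e2 : a' • v - v ∈ (fix A₁ : AddSubgroup V) := hW ▸ S.quad A₂ h2 a' ha' v
      have := add_mem e1 e2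
      rwa [sub_add_sub_cancel, ← mul_smul] at this
    have hd1 : d = 1 := by
      refine h.eq_one_of_sub_mem hp hfaith fun v => ?_
      obtain ⟨w, hw, u, hu, rfl⟩ := AddSubgroup.mem_sup.1
        (show v ∈ (fix A₁ : AddSubgroup V) ⊔ fix B from
          (S.card_fix hfaith h1 hB hAB).2.symm ▸ AddSubgroup.mem_top v)
      rw [smul_add, hdW w hw, add_sub_add_left_eq_sub, ← h.inf_fam hp h1 hB hAB]
      refine AddSubgroup.mem_inf.2 ⟨hdV u, sub_mem ?_ hu⟩
      have h3 : a' • u ∈ (fix (cj a' B) : AddSubgroup V) :=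
        mem_fix_cj.2 (by rwa [inv_smul_smul])
      rw [hd, mul_smul]
      exact mem_fix_cj.1 (hfix ▸ h3)
    rw [hd, inv_mul_eq_one] at hd1
    exact hd1 ▸ ha
  exact (Subgroup.eq_of_le_of_card_ge hle (by rw [S.card A₁ h1, S.card A₂ h2])).symm

/-- The structure theorem. -/
theorem natural_sl2 :
    ∃ (F : Type) (_ : Field F) (_ : Fintype F) (ρ : H ≃* SL(2, F))
      (ψ : V ⧸ (fix (⊤ : Subgroup H) : AddSubgroup V) ≃+ (Fin 2 → F)),
      Fintype.card F = Nat.card ↥A ∧
      ∀ (g : H) (v : V), ψ (QuotientAddGroup.mk (g • v)) =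
        (ρ g : Matrix (Fin 2) (Fin 2) F).mulVec (ψ (QuotientAddGroup.mk v)) := by
  classical
  set S := h.sys hp with hS
  have hsmall : S.Small := h.small hp hfaith
  obtain ⟨x₀, hx₀⟩ := h.exists_not_mem
  set B := cj x₀ A with hBdef
  have hAm : A ∈ S.fam := h.self_mem hp
  have hBm : B ∈ S.fam := h.mem_fam hp x₀
  have hAB : S.lab A ≠ S.lab B := by
    have := (h.lab_ne (g := 1) (g' := x₀)).2 (by simpa using hx₀)
    rwa [cj_one] at this
  have htop : A ⊔ B = ⊤ := h.gen x₀ hx₀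
  set C : AddSubgroup V := fix (⊤ : Subgroup H) with hC
  have hCeq : C = fix A ⊓ fix B := (h.inf_fam hp hAm hBm hAB).symm
  have hCpos : 0 < Nat.card ↥C := Nat.card_pos
  obtain ⟨hWA, hsup⟩ := S.card_fix hfaith hAm hBm hAB
  have hWB := (S.card_fix hfaith hBm hAm hAB.symm).1
  rw [inf_comm (fix B : AddSubgroup V), ← hCeq] at hWB
  rw [← hCeq] at hWA
  -- the action on the quotient
  let act : H →* AddMonoid.End (V ⧸ C) :=
    { toFun := fun g => QuotientAddGroup.map C C (DistribMulAction.toAddMonoidEnd H V g)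
        (fun v hv => by
          show g • v ∈ C
          rw [hv g (Subgroup.mem_top g)]
          exact hv)
      map_one' := AddMonoidHom.ext fun v => by
        induction v using QuotientAddGroup.induction_on with
        | H v => exact congrArg QuotientAddGroup.mk (one_smul H v)
      map_mul' := fun a b => AddMonoidHom.ext fun v => by
        induction v using QuotientAddGroup.induction_on with
        | H v => exact congrArg QuotientAddGroup.mk (mul_smul a b v) }
  letI : DistribMulAction H (V ⧸ C) :=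
    { smul := fun g v => act g v
      one_smul := fun v => by show act 1 v = v; rw [map_one]; rfl
      mul_smul := fun a b v => by show act (a * b) v = act a (act b v); rw [map_mul]; rfl
      smul_zero := fun g => map_zero (act g)
      smul_add := fun g v w => map_add (act g) v w }
  have hsm : ∀ (g : H) (v : V), g • (v : V ⧸ C) = ((g • v : V) : V ⧸ C) := fun _ _ => rfl
  have hmemC : ∀ v : V, (v : V ⧸ C) = 0 ↔ v ∈ C := fun v => QuotientAddGroup.eq_zero_iff v
  have hCle : ∀ E : Subgroup H, C ≤ fix E := fun E => fix_mono le_top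
  have hfixq : ∀ E ∈ S.fam, ∀ v : V,
      (v : V ⧸ C) ∈ (fix E : AddSubgroup (V ⧸ C)) ↔ v ∈ (fix E : AddSubgroup V) := by
    intro E hE v
    refine ⟨fun hv => ?_, fun hv a ha => by rw [hsm, hv a ha]⟩
    obtain ⟨E', hE'm, hne⟩ := h.exists_opp hp hE
    obtain ⟨a, ha, ha1⟩ : ∃ a ∈ E, a ≠ 1 := by
      by_contra! h0
      obtain ⟨g', rfl⟩ := hE
      exact h.ne_bot ((Subgroup.map_eq_bot_iff_of_injective _ (MulAut.conj g').injective).1
        ((Subgroup.eq_bot_iff_forall _).2 h0))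
    have hvC : a • v - v ∈ C := (hmemC _).1 (by
      rw [QuotientAddGroup.mk_sub, ← hsm, hv a ha, sub_self])
    obtain ⟨w, hw, u, hu, rfl⟩ := AddSubgroup.mem_sup.1
      (show v ∈ (fix E : AddSubgroup V) ⊔ fix E' from
        (S.card_fix hfaith hE hE'm hne).2.symm ▸ AddSubgroup.mem_top v)
    refine add_mem hw ?_
    by_contra huE
    rw [smul_add, hw a ha, add_sub_add_left_eq_sub] at hvC
    exact S.comm_not_mem hfaith hE hE'm hne hu huE ha ha1 (hCle E' hvC)
  have hfq : ∀ g : H, (∀ v : V ⧸ C, g • v = v) → g = 1 := fun g hg =>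
    h.eq_one_of_sub_mem hp hfaith fun v => (hmemC _).1 (by
      rw [QuotientAddGroup.mk_sub, ← hsm, hg, sub_self])
  have hcardq : ∀ E ∈ S.fam, Nat.card ↥(fix E : AddSubgroup V) = Nat.card ↥A * Nat.card ↥C →
      Nat.card ↥(fix E : AddSubgroup (V ⧸ C)) = Nat.card ↥A := by
    intro E hE hcE
    let f : ↥(fix E : AddSubgroup V) →+ ↥(fix E : AddSubgroup (V ⧸ C)) :=
      AddMonoidHom.mk' (fun v => ⟨((v : V) : V ⧸ C), (hfixq E hE _).2 v.2⟩) fun v w => rfl
    have hsurj : Function.Surjective f := by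
      rintro ⟨v, hv⟩
      induction v using QuotientAddGroup.induction_on with
      | H v => exact ⟨⟨v, (hfixq E hE v).1 hv⟩, rfl⟩
    have hker : Nat.card ↥f.ker = Nat.card ↥C := Nat.card_congr
      { toFun := fun v => ⟨(v.1 : V), (hmemC _).1 (congrArg Subtype.val v.2)⟩
        invFun := fun c => ⟨⟨c, hCle E c.2⟩, Subtype.ext ((hmemC _).2 c.2)⟩
        left_inv := fun _ => rfl
        right_inv := fun _ => rfl }
    have e := AddSubgroup.card_eq_card_quotient_mul_card_addSubgroup f.ker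
    rw [Nat.card_congr (QuotientAddGroup.quotientKerEquivOfSurjective f hsurj).toEquiv, hker, hcE]
      at e
    exact (Nat.eq_of_mul_eq_mul_right hCpos e).symm
  have P : Pair (V := V ⧸ C) A B (Nat.card ↥A) :=
    { cardA := rfl
      cardB := card_cj x₀ A
      cardWA := hcardq A hAm hWA
      cardWB := hcardq B hBm hWB
      two_le := by
        haveI : Nontrivial ↥A := (Subgroup.nontrivial_iff_ne_bot A).2 h.ne_bot
        exact Finite.one_lt_card
      sup_eq := by
        rw [eq_top_iff]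
        intro v _
        induction v using QuotientAddGroup.induction_on with
        | H v =>
          obtain ⟨w, hw, u, hu, rfl⟩ := AddSubgroup.mem_sup.1
            (show v ∈ (fix A : AddSubgroup V) ⊔ fix B from hsup.symm ▸ AddSubgroup.mem_top v)
          rw [QuotientAddGroup.mk_add]
          exact AddSubgroup.mem_sup.2 ⟨_, (hfixq A hAm w).2 hw, _, (hfixq B hBm u).2 hu, rfl⟩
      inf_eq := by
        rw [eq_bot_iff]
        intro v hv
        induction v using QuotientAddGroup.induction_on with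
        | H v =>
          rw [AddSubgroup.mem_bot, hmemC, hCeq]
          exact ⟨(hfixq A hAm v).1 hv.1, (hfixq B hBm v).1 hv.2⟩
      quadA := fun a ha v => by
        induction v using QuotientAddGroup.induction_on with
        | H v => rw [hsm, ← QuotientAddGroup.mk_sub]; exact (hfixq A hAm _).2 (S.quad A hAm a ha v)
      quadB := fun a ha v => by
        induction v using QuotientAddGroup.induction_on with
        | H v => rw [hsm, ← QuotientAddGroup.mk_sub]; exact (hfixq B hBm _).2 (S.quad B hBm a ha v)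
      injA := fun a ha ha1 u hu he => by
        induction u using QuotientAddGroup.induction_on with
        | H u =>
          rw [hsm, ← sub_eq_zero, ← QuotientAddGroup.mk_sub, hmemC] at he
          have hu' := (hfixq B hBm u).1 hu
          rw [hmemC, hCeq]
          refine ⟨?_, hu'⟩
          by_contra huA
          exact S.comm_not_mem hfaith hAm hBm hAB hu' huA ha ha1 (hCle B he)
      injB := fun a ha ha1 u hu he => by
        induction u using QuotientAddGroup.induction_on with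
        | H u =>
          rw [hsm, ← sub_eq_zero, ← QuotientAddGroup.mk_sub, hmemC] at he
          have hu' := (hfixq A hAm u).1 hu
          rw [hmemC, hCeq]
          refine ⟨hu', ?_⟩
          by_contra huB
          exact S.comm_not_mem hfaith hBm hAm hAB.symm hu' huB ha ha1 (hCle A he)
      line := fun b hb hb1 => by
        have hne : S.lab A ≠ S.lab (cj b A) := fun e =>
          S.free B hBm A hAm hAB.symm b hb hb1 e.symm
        obtain ⟨a, ha, he⟩ := S.orbit hfaith hsmall hAm hBm (S.conj_mem B hBm A hAm b hb) hAB hne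
        refine ⟨a, ha, fun w hw => ?_⟩
        induction w using QuotientAddGroup.induction_on with
        | H w =>
          have h1 : b • w ∈ (fix (cj b A) : AddSubgroup V) :=
            mem_fix_cj.2 (by rw [inv_smul_smul]; exact (hfixq A hAm w).1 hw)
          rw [he] at h1
          exact ⟨((a⁻¹ • b • w : V) : V ⧸ C), (hfixq B hBm _).2 (mem_fix_cj.1 h1),
            by rw [hsm, hsm, smul_inv_smul]⟩ }
  have hp' : ∀ v : V ⧸ C, p • v = 0 := fun v => by
    induction v using QuotientAddGroup.induction_on with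
    | H v => rw [← QuotientAddGroup.mk_nsmul, hp]; rfl
  obtain ⟨F, i1, i2, ρ, ψ, hψ⟩ := P.exists_field hp' hfq htop
  refine ⟨F, i1, i2, ρ, ψ, ?_, fun g v => by rw [← hsm]; exact hψ g _⟩
  have e1 : Nat.card (V ⧸ C) = Fintype.card F ^ 2 := by
    rw [Nat.card_congr ψ.toEquiv, Nat.card_eq_fintype_card, Fintype.card_fun, Fintype.card_fin]
  have e2 := AddSubgroup.card_eq_card_quotient_mul_card_addSubgroup C
  rw [e1, S.card_eq hfaith hAm hBm hAB, ← hCeq] at e2
  exact (Nat.pow_left_injective two_ne_zero (Nat.eq_of_mul_eq_mul_right hCpos e2)).symm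

end MinConf

end Cfsg.Agent.FFSL2
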