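import Cfsg.Agent.Lib.Thompson.FFSL2.JordanBasic

/-!
Decomposition of a Jordan system relative to one of its subfields.
-/

set_option autoImplicit false
set_option linter.unusedSectionVars false
set_option linter.style.haveILetI false

namespace Cfsg.Agent.FFSL2

open Polynomial

variable {R : Type*} [Ring R] {E : Type*} [Field E] (ι : E →+* R)

/-- `w f = σ(f) w` on the subfield. -/
def IsComp (σ : RingAut E) (w : R) : Prop := ∀ f : E, w * ι f = ι (σ f) * w

/-- Left multiplication as a ring homomorphism. -/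
def lmulHom : E →+* AddMonoid.End R where
  toFun f := AddMonoidHom.mulLeft (ι f)
  map_one' := AddMonoidHom.ext fun y => by
    show ι 1 * y = y
    rw [map_one, one_mul]
  map_mul' f g := AddMonoidHom.ext fun y => by
    show ι (f * g) * y = ι f * (ι g * y)
    rw [map_mul, mul_assoc]
  map_zero' := AddMonoidHom.ext fun y => by
    show ι 0 * y = 0
    rw [map_zero, zero_mul]
  map_add' f g := AddMonoidHom.ext fun y => by
    show ι (f + g) * y = ι f * y + ι g * y
    rw [map_add, add_mul]

/-- Right multiplication, a ring homomorphism on a commutative ring. -/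
def rmulHom : E →+* AddMonoid.End R where
  toFun f := AddMonoidHom.mulRight (ι f)
  map_one' := AddMonoidHom.ext fun y => by
    show y * ι 1 = y
    rw [map_one, mul_one]
  map_mul' f g := AddMonoidHom.ext fun y => by
    show y * ι (f * g) = y * ι g * ι f
    rw [mul_comm f g, map_mul, mul_assoc]
  map_zero' := AddMonoidHom.ext fun y => by
    show y * ι 0 = 0
    rw [map_zero, mul_zero]
  map_add' f g := AddMonoidHom.ext fun y => by
    show y * ι (f + g) = y * ι f + y * ι g
    rw [map_add, mul_add]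

variable (x : E)

/-- `∑ cᵢ Xⁱ` acts as `y ↦ ∑ cᵢ y xⁱ`. -/
noncomputable def evL : E[X] →+* AddMonoid.End R :=
  eval₂RingHom' (lmulHom ι) (rmulHom ι x) fun f => AddMonoidHom.ext fun y => by
    show ι f * (y * ι x) = ι f * y * ι x
    rw [mul_assoc]

/-- `∑ cᵢ Xⁱ` acts as `y ↦ ∑ xⁱ y cᵢ`. -/
noncomputable def evR : E[X] →+* AddMonoid.End R :=
  eval₂RingHom' (rmulHom ι) (lmulHom ι x) fun f => AddMonoidHom.ext fun y => by
    show ι x * y * ι f = ι x * (y * ι f)
    rw [mul_assoc]

theorem evL_monomial (k : ℕ) (c : E) (y : R) :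
    evL ι x (monomial k c) y = ι c * (y * ι x ^ k) := by
  show eval₂ (lmulHom ι) (rmulHom ι x) (monomial k c) y = _
  rw [eval₂_monomial, ← map_pow, ← map_pow]
  rfl

theorem evR_monomial (k : ℕ) (c : E) (y : R) :
    evR ι x (monomial k c) y = ι x ^ k * y * ι c := by
  show eval₂ (rmulHom ι) (lmulHom ι x) (monomial k c) y = _
  rw [eval₂_monomial, ← map_pow, ← map_pow]
  rfl

theorem evL_add (P Q : E[X]) (y : R) : evL ι x (P + Q) y = evL ι x P y + evL ι x Q y := by
  rw [map_add]; rfl

theorem evR_add (P Q : E[X]) (y : R) : evR ι x (P + Q) y = evR ι x P y + evR ι x Q y := by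
  rw [map_add]; rfl

theorem IsComp.pow {σ : RingAut E} {w : R} (hw : IsComp ι σ w) (k : ℕ) :
    w * ι x ^ k = ι (σ x) ^ k * w := by
  rw [← map_pow, hw, map_pow, map_pow]

theorem IsComp.evL_apply {σ : RingAut E} {w : R} (hw : IsComp ι σ w) (P : E[X]) :
    evL ι x P w = ι (P.eval (σ x)) * w := by
  induction P using Polynomial.induction_on' with
  | add p q hp hq => rw [evL_add, hp, hq, eval_add, map_add, add_mul]
  | monomial k c =>
    rw [evL_monomial, hw.pow, eval_monomial, map_mul, map_pow, mul_assoc]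

theorem IsComp.evR_apply {σ : RingAut E} {w : R} (hw : IsComp ι σ w) (P : E[X]) :
    evR ι x P w = ι (σ (P.eval (σ.symm x))) * w := by
  induction P using Polynomial.induction_on' with
  | add p q hp hq => rw [evR_add, hp, hq, eval_add, map_add, map_add, add_mul]
  | monomial k c =>
    rw [evR_monomial, eval_monomial, mul_assoc, hw, ← mul_assoc, ← map_pow, ← map_mul, map_mul σ,
      map_pow σ, RingEquiv.apply_symm_apply, mul_comm]

variable [Fintype E] [DecidableEq E]

/-- The Lagrange polynomial at `r`. -/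
noncomputable def lag (r : E) : E[X] := Lagrange.basis Finset.univ id r

theorem eval_lag (r s : E) : (lag r).eval s = if s = r then 1 else 0 := by
  by_cases h : s = r
  · subst h
    rw [if_pos rfl]
    simpa [lag] using Lagrange.eval_basis_self (s := Finset.univ) (v := id)
      Function.injective_id.injOn (Finset.mem_univ s)
  · rw [if_neg h]
    simpa [lag] using Lagrange.eval_basis_of_ne (v := (id : E → E)) (i := r) (j := s)
      (fun e => h e.symm) (Finset.mem_univ s)

theorem evL_eq_zero (P : E[X]) (h : ∀ s : E, P.eval s = 0) (y : R) : evL ι x P y = 0 := by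
  set Z : E[X] := X ^ Fintype.card E - X with hZ
  have hq : 1 < Fintype.card E := Fintype.one_lt_card
  have hdeg : Z.degree = (Fintype.card E : ℕ) := by
    rw [hZ, degree_sub_eq_left_of_degree_lt] <;> simp [hq]
  have hmon : Z.Monic := monic_X_pow_sub (by rw [degree_X]; exact_mod_cast hq)
  have hrem : P %ₘ Z = 0 := by
    refine Polynomial.eq_zero_of_degree_lt_of_eval_finset_eq_zero Finset.univ
      ((degree_modByMonic_lt P hmon).trans_eq (by rw [hdeg, Finset.card_univ])) fun s _ => ?_
    have := congrArg (Polynomial.eval s) (modByMonic_add_div P Z)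
    rw [h s, eval_add, eval_mul, hZ, eval_sub, eval_pow, eval_X, FiniteField.pow_card, sub_self,
      zero_mul, add_zero] at this
    exact this
  have hP : P = P /ₘ Z * Z := by
    conv_lhs => rw [← modByMonic_add_div P Z, hrem, zero_add, mul_comm]
  have hZ0 : evL ι x Z y = 0 := by
    have hX : evL ι x X = rmulHom ι x := eval₂_X _ _
    rw [hZ, map_sub, map_pow, hX, ← map_pow, FiniteField.pow_card, sub_self]
    rfl
  rw [hP, map_mul]
  show evL ι x (P /ₘ Z) (evL ι x Z y) = 0
  rw [hZ0, map_zero]

theorem sum_evL_lag (y : R) : ∑ r : E, evL ι x (lag r) y = y := by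
  have h := evL_eq_zero ι x (∑ r : E, lag r - 1) (fun s => by
    rw [eval_sub, eval_finsetSum, eval_one]
    simp [eval_lag]) y
  rw [map_sub, map_sum, map_one] at h
  have h' : (∑ r : E, evL ι x (lag r)) y - y = 0 := h
  rw [sub_eq_zero] at h'
  conv_rhs => rw [← h']
  exact (AddMonoidHom.finsetSum_apply _ _ _).symm

theorem evL_lag_mul (r : E) (y : R) : evL ι x (lag r) y * ι x = ι r * evL ι x (lag r) y := by
  have h := evL_eq_zero ι x ((X - C r) * lag r) (fun s => by
    by_cases hs : s = r <;> simp [eval_lag, hs]) y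
  rw [map_mul, map_sub] at h
  have h' : evL ι x X (evL ι x (lag r) y) - evL ι x (C r) (evL ι x (lag r) y) = 0 := h
  have hX : evL ι x X = rmulHom ι x := eval₂_X _ _
  have hC : evL ι x (C r) = lmulHom ι r := eval₂_C _ _
  rw [hX, hC, sub_eq_zero] at h'
  exact h'

theorem eq_zero_of_left {w : R} {f g : E} (h : ι f * w = ι g * w) (hne : f ≠ g) : w = 0 := by
  have h1 : ι (f - g) * w = 0 := by rw [map_sub, sub_mul, h, sub_self]
  have h2 := congrArg (ι (f - g)⁻¹ * ·) h1
  simp only [mul_zero] at h2
  rwa [← mul_assoc, ← map_mul, inv_mul_cancel₀ (sub_ne_zero.2 hne), map_one, one_mul] at h2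

theorem exists_isComp (hgen : ∀ f : E, f ≠ 0 → ∃ k : ℕ, f = x ^ k) {w : R} (hw0 : w ≠ 0) {r : E}
    (hw : w * ι x = ι r * w) : ∃ σ : RingAut E, σ x = r ∧ IsComp ι σ w := by
  have hex : ∀ f : E, ∃ g : E, w * ι f = ι g * w := by
    intro f
    by_cases hf : f = 0
    · exact ⟨0, by simp [hf]⟩
    obtain ⟨k, rfl⟩ := hgen f hf
    refine ⟨r ^ k, ?_⟩
    induction k with
    | zero => simp
    | succ k ih =>
      rw [pow_succ x, map_mul]
      by_cases hk : x ^ k = 0
      · exact absurd (by rw [pow_succ, hk, zero_mul]) hf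
      · rw [← mul_assoc, ih hk, mul_assoc, hw, ← mul_assoc, ← map_mul, pow_succ]
  choose g hg using hex
  have huniq : ∀ f a, w * ι f = ι a * w → g f = a := fun f a h => by
    by_contra hne
    exact hw0 (eq_zero_of_left ι ((hg f).symm.trans h) hne)
  let φ : E →+* E :=
    { toFun := g
      map_one' := huniq 1 1 (by simp)
      map_mul' := fun a b => huniq _ _ (by
        rw [map_mul, map_mul, ← mul_assoc, hg a, mul_assoc, hg b, ← mul_assoc])
      map_zero' := huniq 0 0 (by simp)
      map_add' := fun a b => huniq _ _ (by rw [map_add, map_add, mul_add, hg a, hg b, add_mul]) }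
  refine ⟨RingEquiv.ofBijective φ ⟨φ.injective, Finite.injective_iff_surjective.1 φ.injective⟩,
    huniq x r hw, fun f => hg f⟩

theorem aut_eq_of_gen (hgen : ∀ f : E, f ≠ 0 → ∃ k : ℕ, f = x ^ k) {σ τ : RingAut E}
    (h : σ x = τ x) : σ = τ := by
  refine RingEquiv.ext fun f => ?_
  by_cases hf : f = 0
  · simp [hf]
  obtain ⟨k, rfl⟩ := hgen f hf
  rw [map_pow, map_pow, h]

omit [Fintype E] [DecidableEq E] in
theorem exists_gen (E : Type*) [Field E] [Finite E] :
    ∃ x : E, x ≠ 0 ∧ ∀ f : E, f ≠ 0 → ∃ k : ℕ, f = x ^ k := by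
  obtain ⟨u, hu⟩ := IsCyclic.exists_monoid_generator (α := Eˣ)
  refine ⟨u, u.ne_zero, fun f hf => ?_⟩
  obtain ⟨k, hk⟩ := Submonoid.mem_powers_iff _ _ |>.1 (hu (Units.mk0 f hf))
  exact ⟨k, by rw [← Units.val_pow_eq_pow_val, hk]; rfl⟩

section System

variable {p : ℕ} (J : JSys R p) (hι : ∀ f, ι f ∈ J.M)
include hι

theorem evL_add_evR_mem {y : R} (hy : y ∈ J.M) (P : E[X]) :
    evL ι x P y + evR ι x P y ∈ J.M := by
  induction P using Polynomial.induction_on' with
  | add p q hp hq => rw [evL_add, evR_add, add_add_add_comm]; exact add_mem hp hq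
  | monomial k c =>
    rw [evL_monomial, evR_monomial, ← mul_assoc]
    exact J.polar (hι c) (J.pow_mem (hι x) k) hy

theorem evL_evR_cross {y : R} (hy : y ∈ J.M) (P Q : E[X]) :
    evL ι x P (evR ι x Q y) + evL ι x Q (evR ι x P y) ∈ J.M := by
  induction P using Polynomial.induction_on' with
  | add p q hp hq =>
    rw [evL_add, evR_add, map_add, add_add_add_comm]
    exact add_mem hp hq
  | monomial i c =>
    induction Q using Polynomial.induction_on' with
    | add p q hp hq =>
      rw [evR_add, map_add, evL_add, add_add_add_comm]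
      exact add_mem hp hq
    | monomial j d =>
      have h := J.polar (hι (c * x ^ j)) (hι (d * x ^ i)) hy
      rw [evL_monomial, evR_monomial, evL_monomial, evR_monomial]
      have e1 : ι c * (ι x ^ j * y * ι d * ι x ^ i) = ι (c * x ^ j) * y * ι (d * x ^ i) := by
        simp only [map_mul, map_pow, mul_assoc]
      have e2 : ι d * (ι x ^ i * y * ι c * ι x ^ j) = ι (d * x ^ i) * y * ι (c * x ^ j) := by
        simp only [map_mul, map_pow, mul_assoc]
      rw [e1, e2]
      exact h

theorem evL_evR_mem {y : R} (hy : y ∈ J.M) (P : E[X]) : evL ι x P (evR ι x P y) ∈ J.M := by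
  induction P using Polynomial.induction_on' with
  | add p q hp hq =>
    have h := add_mem (add_mem hp hq) (evL_evR_cross ι x J hι hy p q)
    have e : evL ι x (p + q) (evR ι x (p + q) y) = evL ι x p (evR ι x p y) + evL ι x q (evR ι x q y)
        + (evL ι x p (evR ι x q y) + evL ι x q (evR ι x p y)) := by
      rw [evR_add, map_add, evL_add, evL_add]
      abel
    rw [e]
    exact h
  | monomial i c =>
    rw [evL_monomial, evR_monomial]
    have e1 : ι c * (ι x ^ i * y * ι c * ι x ^ i) = ι (c * x ^ i) * y * ι (c * x ^ i) := by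
      simp only [map_mul, map_pow, mul_assoc]
    rw [e1]
    exact J.mul_mul_mem _ (hι _) y hy

/-- The part commuting with the subfield stays in the system. -/
theorem comp_one_mem (hgen : ∀ f : E, f ≠ 0 → ∃ k : ℕ, f = x ^ k) {σ : RingAut E} (hσ : σ ≠ 1)
    {a b c : R} (ha : IsComp ι σ a) (hb : IsComp ι 1 b) (hc : IsComp ι σ.symm c)
    (h : a + b + c ∈ J.M) : b ∈ J.M := by
  have hσx : σ x ≠ x := fun h' => hσ (aut_eq_of_gen x hgen h')
  have hσx' : σ.symm x ≠ x := fun h' => hσx (by conv_lhs => rw [← h', RingEquiv.apply_symm_apply])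
  have := evL_evR_mem ι x J hι h (lag x)
  rw [map_add, map_add, map_add, map_add, ha.evR_apply, hb.evR_apply, hc.evR_apply, eval_lag, eval_lag, eval_lag,
    if_neg hσx', if_neg (show σ.symm.symm x ≠ x from hσx), if_pos (show (1 : RingAut E).symm x = x from rfl)] at this
  simp only [map_zero, zero_mul, zero_add, add_zero, map_one, one_mul] at this
  rw [hb.evL_apply, eval_lag, if_pos (show (1 : RingAut E) x = x from rfl), map_one, one_mul] at this
  exact this

/-- A maximal subfield is the whole system if the components with nontrivial automorphism vanish. -/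
theorem mem_range_of_vanish (hgen : ∀ f : E, f ≠ 0 → ∃ k : ℕ, f = x ^ k)
    (hmax : ∀ y ∈ J.M, (∀ f, y * ι f = ι f * y) → y ∈ Set.range ι)
    (hvan : ∀ σ : RingAut E, σ ≠ 1 → ∀ z₁ z₂ : R, IsComp ι σ z₁ → IsComp ι σ.symm z₂ →
      (σ = σ.symm → z₂ = 0) → z₁ + z₂ ∈ J.M → z₁ = 0)
    {y : R} (hy : y ∈ J.M) : y ∈ Set.range ι := by
  set e : E → R := fun r => evL ι x (lag r) y with he
  have hcomp : ∀ s, e s = 0 ∨ ∃ τ : RingAut E, τ x = s ∧ IsComp ι τ (e s) := fun s => by
    by_cases h : e s = 0
    · exact Or.inl h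
    · exact Or.inr (exists_isComp ι x hgen h (evL_lag_mul ι x s y))
  have hR : ∀ σ : RingAut E, evR ι x (lag (σ x)) y = e (σ.symm x) := by
    intro σ
    conv_lhs => rw [← sum_evL_lag ι x y, map_sum]
    rw [Finset.sum_eq_single (σ.symm x)]
    · rcases hcomp (σ.symm x) with h | ⟨τ, hτ, hc⟩
      · show evR ι x (lag (σ x)) (e (σ.symm x)) = _
        rw [h, map_zero]
      · show evR ι x (lag (σ x)) (e (σ.symm x)) = _
        obtain rfl : τ = σ.symm := aut_eq_of_gen x hgen hτ
        rw [hc.evR_apply, eval_lag, if_pos (show σ.symm.symm x = σ x from rfl), map_one, map_one,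
          one_mul]
    · intro s _ hs
      show evR ι x (lag (σ x)) (e s) = 0
      rcases hcomp s with h | ⟨τ, hτ, hc⟩
      · rw [h, map_zero]
      · rw [hc.evR_apply, eval_lag, if_neg, map_zero, map_zero, zero_mul]
        intro h
        refine hs ?_
        have h' : τ.symm = σ := aut_eq_of_gen x hgen h
        rw [← h', ← hτ]
        rfl
    · exact fun h => absurd (Finset.mem_univ _) h
  rw [← sum_evL_lag ι x y]
  show (∑ r, e r) ∈ Set.range ι
  refine Finset.sum_induction e (· ∈ Set.range ι)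
    (fun _ _ ⟨a, ha⟩ ⟨b, hb⟩ => ⟨a + b, by rw [map_add, ha, hb]⟩) ⟨0, map_zero ι⟩ fun r _ => ?_
  rcases hcomp r with h | ⟨σ, hσ, hc⟩
  · exact ⟨0, by rw [map_zero, h]⟩
  have hsum := evL_add_evR_mem ι x J hι hy (lag r)
  rw [← hσ, hR σ, hσ] at hsum
  change e r + e (σ.symm x) ∈ J.M at hsum
  by_cases hss : σ = σ.symm
  · have hmem := evL_evR_mem ι x J hι hy (lag r)
    rw [← hσ, hR σ, ← hss, hσ, hc.evL_apply, eval_lag, if_pos hσ, map_one, one_mul] at hmem
    by_cases h1 : σ = 1
    · refine hmax _ hmem fun f => ?_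
      rw [hc, h1]
      rfl
    · exact ⟨0, by rw [map_zero]; exact (hvan σ h1 _ 0 hc (fun f => by simp) (fun _ => rfl)
        (by rwa [add_zero])).symm⟩
  · have h1 : σ ≠ 1 := fun h => hss (by rw [h]; rfl)
    rcases hcomp (σ.symm x) with h | ⟨τ, hτ, hc'⟩
    · exact ⟨0, by rw [map_zero]; exact (hvan σ h1 _ 0 hc (fun f => by simp) (fun e => absurd e hss)
        (by rwa [add_zero, ← add_zero (e r), ← h])).symm⟩
    · obtain rfl : τ = σ.symm := aut_eq_of_gen x hgen hτ
      exact ⟨0, by rw [map_zero]; exact (hvan σ h1 _ _ hc hc' (fun e => absurd e hss) hsum).symm⟩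

end System

end Cfsg.Agent.FFSL2
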