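import Mathlib

/-!
Additive groups of units closed under `(x, z) ↦ x z x`: commuting elements generate subfields.
-/

set_option autoImplicit false
set_option linter.unusedSectionVars false
set_option linter.style.haveILetI false

namespace Cfsg.Agent.FFSL2

variable {R : Type*} [Ring R]

/-- A Jordan system: an additive group containing `1`, closed under `(x, z) ↦ x z x`, all of whose
nonzero members are units, in characteristic `p`. -/
structure JSys (R : Type*) [Ring R] (p : ℕ) where
  /-- the members -/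
  M : AddSubgroup R
  one_mem : (1 : R) ∈ M
  mul_mul_mem : ∀ x ∈ M, ∀ z ∈ M, x * z * x ∈ M
  isUnit : ∀ x ∈ M, x ≠ 0 → IsUnit x
  char_eq : (p : R) = 0

namespace JSys

variable {p : ℕ} (J : JSys R p)

theorem sq_mem {x : R} (hx : x ∈ J.M) : x * x ∈ J.M := by
  simpa using J.mul_mul_mem x hx 1 J.one_mem

theorem pow_mem {x : R} (hx : x ∈ J.M) : ∀ k : ℕ, x ^ k ∈ J.M
  | 0 => by simpa using J.one_mem
  | 1 => by simpa using hx
  | k + 2 => by
      rw [show x ^ (k + 2) = x * x ^ k * x by rw [pow_succ, pow_succ']]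
      exact J.mul_mul_mem x hx _ (pow_mem hx k)

theorem polar {x y w : R} (hx : x ∈ J.M) (hy : y ∈ J.M) (hw : w ∈ J.M) :
    x * w * y + y * w * x ∈ J.M := by
  have h := sub_mem (sub_mem (J.mul_mul_mem (x + y) (add_mem hx hy) w hw) (J.mul_mul_mem x hx w hw))
    (J.mul_mul_mem y hy w hw)
  have e : (x + y) * w * (x + y) - x * w * x - y * w * y = x * w * y + y * w * x := by
    simp only [add_mul, mul_add]
    abel
  rwa [e] at h

theorem eq_zero_of_mul {x y : R} (hx : x ∈ J.M) (hx0 : x ≠ 0) (h : x * y = 0) : y = 0 :=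
  (J.isUnit x hx hx0).mul_right_eq_zero.1 h

variable [Finite R] [Fact p.Prime]

include J in
theorem two_cancel (hp : p ≠ 2) {w : R} (h : w + w = 0) : w = 0 := by
  obtain ⟨m, hm⟩ := (Nat.Prime.odd_of_ne_two Fact.out hp : Odd p)
  have h2 : ((2 * m + 1 : ℕ) : R) = 0 := by rw [← hm, J.char_eq]
  have h3 : (p : R) * w = (m : R) * (w + w) + w := by
    rw [hm]
    push_cast
    rw [add_mul, one_mul, mul_add, two_mul, add_mul]
  rw [J.char_eq, zero_mul, h, mul_zero, zero_add] at h3
  exact h3.symm

theorem half_mem (hp : p ≠ 2) {w : R} (h : w + w ∈ J.M) : w ∈ J.M := by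
  obtain ⟨m, hm⟩ := (Nat.Prime.odd_of_ne_two Fact.out hp : Odd p)
  have h1 : (m + 1) • (w + w) = w := by
    have hw : p • w = 0 := by rw [nsmul_eq_mul, J.char_eq, zero_mul]
    rw [← two_nsmul, ← mul_nsmul', show (m + 1) * 2 = p + 1 by omega, add_nsmul, hw, zero_add,
      one_nsmul]
  rw [← h1]
  exact AddSubgroup.nsmul_mem _ h _

include J in
theorem neg_eq_of_two (hp : p = 2) (w : R) : -w = w := by
  have h : (2 : R) = 0 := by
    have := J.char_eq
    rw [hp] at this
    exact_mod_cast this
  rw [neg_eq_iff_add_eq_zero, ← two_mul, h, zero_mul]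

theorem exists_sq_of_two (hp : p = 2) {f : R} (hf : f ∈ J.M) :
    ∃ k : ℕ, f = f ^ k * f ^ k := by
  by_cases hf0 : f = 0
  · exact ⟨1, by rw [hf0]; simp⟩
  obtain ⟨u, rfl⟩ := J.isUnit f hf hf0
  have hodd : Odd (orderOf u) := by
    by_contra h
    obtain ⟨m, hm⟩ := Nat.not_odd_iff_even.1 h
    have hpos : 0 < orderOf u := orderOf_pos u
    have hg : (u : R) ^ m ∈ J.M := J.pow_mem hf m
    have hsq : ((u : R) ^ m - 1) * ((u : R) ^ m - 1) = 0 := by
      have h1 : (u : R) ^ m * (u : R) ^ m = 1 := by
        rw [← pow_add, ← hm, ← Units.val_pow_eq_pow_val, pow_orderOf_eq_one, Units.val_one]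
      rw [sub_mul, mul_sub, mul_sub, h1, mul_one, one_mul, one_mul]
      have h2 : (2 : R) = 0 := by
        have := J.char_eq
        rw [hp] at this
        exact_mod_cast this
      have e : (1 : R) - (u : R) ^ m - ((u : R) ^ m - 1) = 2 * (1 - (u : R) ^ m) := by
        rw [two_mul]
        abel
      rw [e, h2, zero_mul]
    have he : (u : R) ^ m - 1 = 0 := by
      by_contra hne
      exact hne (J.eq_zero_of_mul (sub_mem hg J.one_mem) hne hsq)
    have : orderOf u ∣ m := orderOf_dvd_of_pow_eq_one (Units.ext (by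
      rw [Units.val_pow_eq_pow_val, Units.val_one]
      exact sub_eq_zero.1 he))
    have := Nat.le_of_dvd (by omega) this
    omega
  obtain ⟨m, hm⟩ := hodd
  refine ⟨m + 1, ?_⟩
  rw [← pow_add, ← Units.val_pow_eq_pow_val, show m + 1 + (m + 1) = orderOf u + 1 by omega,
    pow_succ, pow_orderOf_eq_one, one_mul]

/-- Commuting members have their product in the system. -/
theorem mul_mem {f w : R} (hf : f ∈ J.M) (hw : w ∈ J.M) (hc : Commute f w) : f * w ∈ J.M := by
  by_cases hp : p = 2
  · obtain ⟨k, hk⟩ := J.exists_sq_of_two hp hf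
    have : f * w = f ^ k * w * f ^ k := by
      rw [mul_assoc, ← (hc.pow_left k).eq, ← mul_assoc, ← hk]
    rw [this]
    exact J.mul_mul_mem _ (J.pow_mem hf k) w hw
  · refine J.half_mem hp ?_
    have := J.polar hf hw J.one_mem
    rwa [mul_one, mul_one, ← hc.eq] at this

/-- A commutative subring inside the system. -/
def Good (F : Subring R) : Prop := (∀ x ∈ F, x ∈ J.M) ∧ ∀ x ∈ F, ∀ y ∈ F, x * y = y * x

theorem good_closure {S : Set R} (hS : S ⊆ J.M) (hc : ∀ x ∈ S, ∀ y ∈ S, x * y = y * x) :
    J.Good (Subring.closure S) := by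
  have h1 : ∀ x ∈ Subring.closure S, ∀ y ∈ Subring.closure S, x * y = y * x := by
    intro x hx y hy
    have h2 : Subring.closure S ≤ Subring.centralizer S :=
      Subring.closure_le.2 fun a ha => Subring.mem_centralizer_iff.2 fun b hb => hc b hb a ha
    have h3 : Subring.closure S ≤ Subring.centralizer (Subring.closure S : Set R) :=
      Subring.closure_le.2 fun a ha => Subring.mem_centralizer_iff.2 fun b hb =>
        (Subring.mem_centralizer_iff.1 (h2 hb) a ha).symm
    exact (Subring.mem_centralizer_iff.1 (h3 hy) x hx)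
  refine ⟨fun x hx => ?_, h1⟩
  induction hx using Subring.closure_induction with
  | mem a ha => exact hS ha
  | zero => exact J.M.zero_mem
  | one => exact J.one_mem
  | add a b _ _ iha ihb => exact add_mem iha ihb
  | neg a _ iha => exact neg_mem iha
  | mul a b ha hb iha ihb => exact J.mul_mem iha ihb (h1 a ha b hb)

variable {J}

theorem Good.isField [Nontrivial R] {F : Subring R} (hF : J.Good F) : IsField ↥F := by
  letI : CommRing ↥F := { F.toRing with mul_comm := fun a b => Subtype.ext (hF.2 a a.2 b b.2) }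
  haveI : NoZeroDivisors ↥F := ⟨fun {a b} h => by
    by_cases ha : (a : R) = 0
    · exact Or.inl (Subtype.ext ha)
    · exact Or.inr (Subtype.ext
        (J.eq_zero_of_mul (hF.1 _ a.2) ha (by simpa using congrArg Subtype.val h)))⟩
  haveI : IsDomain ↥F := NoZeroDivisors.to_isDomain _
  exact Finite.isField_of_domain _

/-- The field structure on a good subring. -/
@[reducible] noncomputable def Good.field [Nontrivial R] {F : Subring R} (hF : J.Good F) :
    Field ↥F :=
  hF.isField.toField

theorem Good.exists_maximal {x : R} (hx : x ∈ J.M) : ∃ F : Subring R, J.Good F ∧ x ∈ F ∧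
    ∀ y ∈ J.M, (∀ f ∈ F, y * f = f * y) → y ∈ F := by
  classical
  haveI : Finite (Subring R) := Finite.of_injective (fun S : Subring R => (S : Set R)) SetLike.coe_injective
  obtain ⟨F, ⟨hF, hxF⟩, hmax⟩ := Set.Finite.exists_maximalFor
    (fun F : Subring R => F) {F | J.Good F ∧ x ∈ F} (Set.toFinite _)
    ⟨_, J.good_closure (Set.singleton_subset_iff.2 hx) (by simp),
      Subring.subset_closure (Set.mem_singleton x)⟩
  refine ⟨F, hF, hxF, fun y hy hcy => ?_⟩
  have hG : J.Good (Subring.closure (insert y (F : Set R))) := by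
    refine J.good_closure (Set.insert_subset hy hF.1) ?_
    rintro a (rfl | ha) b (rfl | hb)
    · rfl
    · exact hcy b hb
    · exact (hcy a ha).symm
    · exact hF.2 a ha b hb
  have hle : F ≤ Subring.closure (insert y (F : Set R)) := fun f hf =>
    Subring.subset_closure (Set.mem_insert_of_mem y hf)
  exact hmax ⟨hG, hle hxF⟩ hle (Subring.subset_closure (Set.mem_insert y _))

end JSys

end Cfsg.Agent.FFSL2
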