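import Mathlib

/-!
Systems of quadratic offenders with an opposition relation.
-/

set_option autoImplicit false
set_option linter.unusedSectionVars false

namespace Cfsg.Agent.FFSL2

open scoped Pointwise

variable {H : Type*} [Group H] [Finite H] {V : Type*} [AddCommGroup V] [Finite V]
  [DistribMulAction H V]

/-- The fixed points of a subgroup. -/
def fix (A : Subgroup H) : AddSubgroup V where
  carrier := {v | ∀ a ∈ A, a • v = v}
  zero_mem' := fun a _ => smul_zero a
  add_mem' := fun {x y} hx hy a ha => by rw [smul_add, hx a ha, hy a ha]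
  neg_mem' := fun {x} hx a ha => by rw [smul_neg, hx a ha]

theorem mem_fix {A : Subgroup H} {v : V} : v ∈ (fix A : AddSubgroup V) ↔ ∀ a ∈ A, a • v = v :=
  Iff.rfl

/-- The conjugate `g A g⁻¹`. -/
def cj (g : H) (A : Subgroup H) : Subgroup H := A.map (MulAut.conj g).toMonoidHom

theorem mem_cj {g x : H} {A : Subgroup H} : x ∈ cj g A ↔ g⁻¹ * x * g ∈ A := by
  constructor
  · rintro ⟨y, hy, rfl⟩
    simpa [mul_assoc] using hy
  · intro h
    exact ⟨_, h, by simp [mul_assoc]⟩

theorem cj_mul (g h : H) (A : Subgroup H) : cj (g * h) A = cj g (cj h A) := by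
  ext x
  simp only [mem_cj, mul_inv_rev, mul_assoc]

theorem cj_one (A : Subgroup H) : cj 1 A = A := by
  ext x
  simp [mem_cj]

theorem cj_self {a : H} {A : Subgroup H} (ha : a ∈ A) : cj a A = A := by
  ext x
  rw [mem_cj]
  constructor
  · intro h
    simpa [mul_assoc] using A.mul_mem (A.mul_mem ha h) (A.inv_mem ha)
  · exact fun h => A.mul_mem (A.mul_mem (A.inv_mem ha) h) ha

theorem card_cj (g : H) (A : Subgroup H) : Nat.card ↥(cj g A) = Nat.card ↥A :=
  (Nat.card_congr (A.equivMapOfInjective _ (MulAut.conj g).injective).toEquiv).symm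

theorem mem_fix_cj {g : H} {A : Subgroup H} {v : V} :
    v ∈ (fix (cj g A) : AddSubgroup V) ↔ g⁻¹ • v ∈ (fix A : AddSubgroup V) := by
  constructor
  · intro h a ha
    have := h (g * a * g⁻¹) (mem_cj.2 (by simpa [mul_assoc] using ha))
    rw [mul_smul, mul_smul] at this
    rw [eq_inv_smul_iff]
    exact this
  · intro h x hx
    have := h _ (mem_cj.1 hx)
    rw [mul_smul, mul_smul, smul_inv_smul, smul_left_cancel_iff] at this
    exact this

/-- `|P + Q| |P ∩ Q| = |P| |Q|`. -/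
theorem card_sup_mul_card_inf (P Q : AddSubgroup V) :
    Nat.card ↥(P ⊔ Q) * Nat.card ↥(P ⊓ Q) = Nat.card ↥P * Nat.card ↥Q := by
  let f : ↥P × ↥Q →+ V := AddMonoidHom.coprod P.subtype Q.subtype
  have hr : f.range = P ⊔ Q := by
    ext x
    simp only [AddMonoidHom.mem_range, AddSubgroup.mem_sup]
    constructor
    · rintro ⟨⟨a, b⟩, rfl⟩
      exact ⟨a, a.2, b, b.2, rfl⟩
    · rintro ⟨a, ha, b, hb, rfl⟩
      exact ⟨(⟨a, ha⟩, ⟨b, hb⟩), rfl⟩
  let e : ↥f.ker ≃ ↥(P ⊓ Q) :=
    { toFun := fun x => ⟨(x.1.1 : V), x.1.1.2, by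
        have h : (x.1.1 : V) + (x.1.2 : V) = 0 := x.2
        rw [eq_neg_of_add_eq_zero_left h]
        exact Q.neg_mem x.1.2.2⟩
      invFun := fun y => ⟨(⟨y, y.2.1⟩, ⟨-(y : V), Q.neg_mem y.2.2⟩), add_neg_cancel (y : V)⟩
      left_inv := fun x => by
        have h : (x.1.1 : V) + (x.1.2 : V) = 0 := x.2
        exact Subtype.ext (Prod.ext rfl (Subtype.ext (neg_eq_of_add_eq_zero_right h)))
      right_inv := fun _ => rfl }
  have h := AddSubgroup.card_eq_card_quotient_mul_card_addSubgroup f.ker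
  rw [Nat.card_congr (QuotientAddGroup.quotientKerEquivRange f).toEquiv, Nat.card_congr e, hr,
    Nat.card_prod] at h
  exact h.symm

/-- A system of quadratic offenders of order `q`, with labels such that differently labelled
members are opposite. -/
structure Sys (q : ℕ) (ι : Type*) where
  /-- the members -/
  fam : Set (Subgroup H)
  /-- the labels -/
  lab : Subgroup H → ι
  card : ∀ A ∈ fam, Nat.card ↥A = q
  quad : ∀ A ∈ fam, ∀ a ∈ A, ∀ v : V, a • v - v ∈ (fix A : AddSubgroup V)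
  le : ∀ A ∈ fam, Nat.card V ≤ q * Nat.card ↥(fix A : AddSubgroup V)
  conj_mem : ∀ A ∈ fam, ∀ B ∈ fam, ∀ a ∈ A, cj a B ∈ fam
  lab_conj : ∀ A ∈ fam, ∀ B ∈ fam, ∀ B' ∈ fam, ∀ a ∈ A,
    lab B = lab B' → lab (cj a B) = lab (cj a B')
  free : ∀ A ∈ fam, ∀ B ∈ fam, lab A ≠ lab B → ∀ a ∈ A, a ≠ 1 → lab (cj a B) ≠ lab B
  noncomm : ∀ A ∈ fam, ∀ B ∈ fam, lab A ≠ lab B → ¬ ∀ a ∈ A, ∀ b ∈ B, a * b = b * a

variable {q : ℕ} {ι : Type*}

/-- Two equally labelled members which act trivially on each other's series coincide. -/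
def Sys.Small (S : Sys (H := H) (V := V) q ι) : Prop :=
  ∀ A ∈ S.fam, ∀ A' ∈ S.fam, S.lab A = S.lab A' →
    (∀ a ∈ A, ∀ v : V, a • v - v ∈ (fix A' : AddSubgroup V)) →
    (∀ a ∈ A', ∀ v : V, a • v - v ∈ (fix A : AddSubgroup V)) → A = A'

namespace Sys

variable (S : Sys (H := H) (V := V) q ι) (hfaith : ∀ h : H, (∀ v : V, h • v = v) → h = 1)
include hfaith

theorem q_pos {A : Subgroup H} (hA : A ∈ S.fam) : 0 < q := by
  rw [← S.card A hA]
  exact Nat.card_pos

theorem card_le_sq {A B : Subgroup H} (hA : A ∈ S.fam) (hB : B ∈ S.fam) :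
    Nat.card V ≤ q ^ 2 * Nat.card ↥((fix A : AddSubgroup V) ⊓ fix B) := by
  have h1 := S.le A hA
  have h2 := S.le B hB
  have h3 := card_sup_mul_card_inf (fix A : AddSubgroup V) (fix B)
  have h4 : Nat.card ↥((fix A : AddSubgroup V) ⊔ fix B) ≤ Nat.card V :=
    Nat.card_le_card_of_injective Subtype.val Subtype.val_injective
  have h5 : 0 < Nat.card V := Nat.card_pos
  refine Nat.le_of_mul_le_mul_left ?_ h5
  calc Nat.card V * Nat.card V
      ≤ (q * Nat.card ↥(fix A : AddSubgroup V)) * (q * Nat.card ↥(fix B : AddSubgroup V)) :=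
        Nat.mul_le_mul h1 h2
    _ = q ^ 2 * (Nat.card ↥((fix A : AddSubgroup V) ⊔ fix B) *
          Nat.card ↥((fix A : AddSubgroup V) ⊓ fix B)) := by rw [h3]; ring
    _ ≤ Nat.card V * (q ^ 2 * Nat.card ↥((fix A : AddSubgroup V) ⊓ fix B)) := by
        rw [mul_left_comm]
        exact Nat.mul_le_mul_right _ h4

/-- Two opposite members have different fixed spaces. -/
theorem fix_ne {A B : Subgroup H} (hA : A ∈ S.fam) (hB : B ∈ S.fam) (h : S.lab A ≠ S.lab B) :
    (fix A : AddSubgroup V) ≠ fix B := by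
  intro e
  refine S.noncomm A hA B hB h fun a ha b hb => ?_
  have h1 : ∀ v : V, (a * b) • v = (b * a) • v := by
    intro v
    have ea := S.quad A hA a ha v
    have eb := S.quad B hB b hb v
    have e1 : a • (b • v - v) = b • v - v := (e.symm ▸ eb : b • v - v ∈ (fix A : AddSubgroup V)) a ha
    have e2 : b • (a • v - v) = a • v - v := (e ▸ ea : a • v - v ∈ (fix B : AddSubgroup V)) b hb
    rw [smul_sub, sub_eq_iff_eq_add] at e1 e2
    rw [mul_smul, mul_smul, e1, e2]
    abel
  have h2 := hfaith ((b * a)⁻¹ * (a * b)) fun v => by rw [mul_smul, h1, inv_smul_smul]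
  exact (inv_mul_eq_one.1 h2).symm

theorem key_aux : ∀ n : ℕ, ∀ A ∈ S.fam, ∀ B ∈ S.fam, S.lab A ≠ S.lab B →
    Nat.card V ≤ n + Nat.card ↥((fix A : AddSubgroup V) ⊓ fix B) →
    Nat.card V = q ^ 2 * Nat.card ↥((fix A : AddSubgroup V) ⊓ fix B) ∧
    ∀ v ∈ (fix B : AddSubgroup V), v ∉ (fix A : AddSubgroup V) → ∀ a ∈ A, a ≠ 1 →
      a • v - v ∉ (fix B : AddSubgroup V) := by
  intro n
  induction n using Nat.strong_induction_on with
  | _ n ih =>
    intro A hA B hB hAB hn
    set C : AddSubgroup V := fix A ⊓ fix B with hC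
    have inj : ∀ A' ∈ S.fam, ∀ B' ∈ S.fam, S.lab A' ≠ S.lab B' →
        (fix A' : AddSubgroup V) ⊓ fix B' = C →
        ∀ v ∈ (fix B' : AddSubgroup V), v ∉ (fix A' : AddSubgroup V) → ∀ a ∈ A', a ≠ 1 →
          a • v - v ∉ (fix B' : AddSubgroup V) := by
      intro A' hA' B' hB' hne hCe v hv hvA a ha ha1 hc
      have hai : a⁻¹ ∈ A' := A'.inv_mem ha
      set B'' := cj a⁻¹ B' with hB''
      have hB''m : B'' ∈ S.fam := S.conj_mem A' hA' B' hB' _ hai
      have hv'' : v ∈ (fix B'' : AddSubgroup V) := by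
        rw [hB'', mem_fix_cj, inv_inv]
        have := add_mem hc hv
        rwa [sub_add_cancel] at this
      have hne' : S.lab B' ≠ S.lab B'' :=
        (S.free A' hA' B' hB' hne _ hai (inv_ne_one.2 ha1)).symm
      have hle : C ≤ fix B' ⊓ fix B'' := by
        intro c hc'
        rw [← hCe] at hc'
        refine ⟨hc'.2, ?_⟩
        rw [hB'']
        refine mem_fix_cj.2 ?_
        rw [inv_inv, hc'.1 a ha]
        exact hc'.2
      have hlt : Nat.card ↥C < Nat.card ↥((fix B' : AddSubgroup V) ⊓ fix B'') := by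
        rcases (AddSubgroup.card_le_of_le hle).lt_or_eq with h | h
        · exact h
        · exfalso
          have e := AddSubgroup.eq_of_le_of_card_ge hle h.ge
          have : v ∈ C := e ▸ ⟨hv, hv''⟩
          exact hvA ((hCe.symm ▸ this : v ∈ (fix A' : AddSubgroup V) ⊓ fix B')).1
      have hle' : Nat.card ↥((fix B' : AddSubgroup V) ⊓ fix B'') ≤ Nat.card V :=
        Nat.card_le_card_of_injective Subtype.val Subtype.val_injective
      obtain ⟨h1, -⟩ := ih (Nat.card V - Nat.card ↥((fix B' : AddSubgroup V) ⊓ fix B''))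
        (by omega) B' hB' B'' hB''m hne' (by omega)
      have h2 := S.card_le_sq hfaith hA hB
      rw [h1] at h2
      exact absurd (Nat.le_of_mul_le_mul_left h2 (pow_pos (S.q_pos hfaith hA) 2)) (not_le.2 hlt)
    have grow : ∀ A' ∈ S.fam, ∀ B' ∈ S.fam, S.lab A' ≠ S.lab B' →
        (fix A' : AddSubgroup V) ⊓ fix B' = C → ¬ (fix B' : AddSubgroup V) ≤ fix A' →
        q * Nat.card ↥C ≤ Nat.card ↥(fix A' : AddSubgroup V) := by
      intro A' hA' B' hB' hne hCe hnle
      obtain ⟨v, hv, hvA⟩ := SetLike.not_le_iff_exists.1 hnle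
      let f : ↥A' × ↥C → ↥(fix A' : AddSubgroup V) := fun x =>
        ⟨(x.1 : H) • v - v + (x.2 : V), add_mem (S.quad A' hA' _ x.1.2 v)
          (hCe.symm ▸ x.2.2 : (x.2 : V) ∈ (fix A' : AddSubgroup V) ⊓ fix B').1⟩
      have hf : Function.Injective f := by
        rintro ⟨a, c⟩ ⟨a', c'⟩ h
        have h' : (a : H) • v - v + (c : V) = (a' : H) • v - v + (c' : V) := congrArg Subtype.val h
        set d : H := (a' : H)⁻¹ * (a : H) with hd
        have hdm : d ∈ A' := A'.mul_mem (A'.inv_mem a'.2) a.2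
        have hcC : (c' : V) - c ∈ (fix A' : AddSubgroup V) ⊓ fix B' := hCe.symm ▸ sub_mem c'.2 c.2
        have e1 : (a : H) • v = (a' : H) • v + ((c' : V) - c) := by
          linear_combination (norm := abel) h'
        have e2 : d • v - v = (c' : V) - c := by
          rw [hd, mul_smul, e1, smul_add, inv_smul_smul, hcC.1 _ (A'.inv_mem a'.2)]
          abel
        have hd1 : d = 1 := by
          by_contra hd1
          exact inj A' hA' B' hB' hne hCe v hv hvA d hdm hd1 (e2 ▸ hcC.2)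
        rw [hd1, one_smul, sub_self, eq_comm, sub_eq_zero] at e2
        have ha : a = a' := Subtype.ext (by
          rw [hd, inv_mul_eq_one] at hd1
          exact hd1.symm)
        subst ha
        exact Prod.ext rfl (Subtype.ext e2.symm)
      have := Nat.card_le_card_of_injective f hf
      rwa [Nat.card_prod, S.card A' hA'] at this
    have hne2 := S.fix_ne hfaith hA hB hAB
    have hq : 0 < q := S.q_pos hfaith hA
    have leA := S.le A hA
    have leB := S.le B hB
    have h3 : Nat.card ↥((fix A : AddSubgroup V) ⊔ fix B) * Nat.card ↥C =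
        Nat.card ↥(fix A : AddSubgroup V) * Nat.card ↥(fix B : AddSubgroup V) :=
      card_sup_mul_card_inf _ _
    have h4 : Nat.card ↥((fix A : AddSubgroup V) ⊔ fix B) ≤ Nat.card V :=
      Nat.card_le_card_of_injective Subtype.val Subtype.val_injective
    have hCV : 0 < Nat.card ↥C := Nat.card_pos
    have hWA : 0 < Nat.card ↥(fix A : AddSubgroup V) := Nat.card_pos
    -- if one fixed space contains the other, compare orders
    have main : ∀ A' ∈ S.fam, ∀ B' ∈ S.fam, S.lab A' ≠ S.lab B' →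
        (fix A' : AddSubgroup V) ⊓ fix B' = C →
        q * Nat.card ↥C ≤ Nat.card ↥(fix A' : AddSubgroup V) := by
      intro A' hA' B' hB' hne hCe
      by_cases hle : (fix B' : AddSubgroup V) ≤ fix A'
      · exfalso
        have hne' : ¬ (fix A' : AddSubgroup V) ≤ fix B' := fun h =>
          S.fix_ne hfaith hA' hB' hne (le_antisymm h hle)
        have hg := grow B' hB' A' hA' hne.symm (inf_comm (fix A' : AddSubgroup V) _ ▸ hCe) hne'
        have hC' : C = fix B' := by rw [← hCe, inf_eq_right.2 hle]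
        rw [← hC'] at hg
        have hq1 : q = 1 := by
          have := Nat.le_of_mul_le_mul_right (show q * Nat.card ↥C ≤ 1 * Nat.card ↥C by
            rw [one_mul]; exact hg) hCV
          omega
        refine S.noncomm A' hA' B' hB' hne fun a ha b hb => ?_
        have hsub : Subsingleton ↥A' :=
          (Nat.card_eq_one_iff_unique.1 (by rw [S.card A' hA', hq1])).1
        have : (⟨a, ha⟩ : ↥A') = 1 := Subsingleton.elim _ _
        rw [Subgroup.mk_eq_one] at this
        rw [this, one_mul, mul_one]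
      · exact grow A' hA' B' hB' hne hCe hle
    have hgA := main A hA B hB hAB rfl
    have hgB := main B hB A hA hAB.symm (inf_comm _ _)
    refine ⟨?_, fun v hv hvA a ha ha1 => inj A hA B hB hAB rfl v hv hvA a ha ha1⟩
    refine le_antisymm (S.card_le_sq hfaith hA hB) ?_
    refine Nat.le_of_mul_le_mul_right ?_ hCV
    calc q ^ 2 * Nat.card ↥C * Nat.card ↥C = (q * Nat.card ↥C) * (q * Nat.card ↥C) := by ring
      _ ≤ Nat.card ↥(fix A : AddSubgroup V) * Nat.card ↥(fix B : AddSubgroup V) :=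
          Nat.mul_le_mul hgA hgB
      _ = Nat.card ↥((fix A : AddSubgroup V) ⊔ fix B) * Nat.card ↥C := h3.symm
      _ ≤ Nat.card V * Nat.card ↥C := Nat.mul_le_mul_right _ h4

section Pair

variable {A B : Subgroup H} (hA : A ∈ S.fam) (hB : B ∈ S.fam) (hAB : S.lab A ≠ S.lab B)
include hA hB hAB

theorem card_eq :
    Nat.card V = q ^ 2 * Nat.card ↥((fix A : AddSubgroup V) ⊓ fix B) :=
  (S.key_aux hfaith (Nat.card V) A hA B hB hAB (Nat.le_add_right _ _)).1

theorem comm_not_mem {v : V} (hv : v ∈ (fix B : AddSubgroup V))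
    (hvA : v ∉ (fix A : AddSubgroup V)) {a : H} (ha : a ∈ A) (ha1 : a ≠ 1) :
    a • v - v ∉ (fix B : AddSubgroup V) :=
  (S.key_aux hfaith (Nat.card V) A hA B hB hAB (Nat.le_add_right _ _)).2 v hv hvA a ha ha1

theorem card_fix :
    Nat.card ↥(fix A : AddSubgroup V) = q * Nat.card ↥((fix A : AddSubgroup V) ⊓ fix B) ∧
      (fix A : AddSubgroup V) ⊔ fix B = ⊤ := by
  set C : AddSubgroup V := fix A ⊓ fix B
  have e := S.card_eq hfaith hA hB hAB
  have hq : 0 < q := S.q_pos hfaith hA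
  have h3 := card_sup_mul_card_inf (fix A : AddSubgroup V) (fix B)
  have h4 : Nat.card ↥((fix A : AddSubgroup V) ⊔ fix B) ≤ Nat.card V :=
    Nat.card_le_card_of_injective Subtype.val Subtype.val_injective
  have geA : q * Nat.card ↥C ≤ Nat.card ↥(fix A : AddSubgroup V) := by
    refine Nat.le_of_mul_le_mul_left ?_ hq
    rw [← mul_assoc, ← sq, ← e]
    exact S.le A hA
  have geB : q * Nat.card ↥C ≤ Nat.card ↥(fix B : AddSubgroup V) := by
    refine Nat.le_of_mul_le_mul_left ?_ hq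
    rw [← mul_assoc, ← sq, ← e]
    exact S.le B hB
  have hCpos : 0 < Nat.card ↥C := Nat.card_pos
  have leAB : Nat.card ↥(fix A : AddSubgroup V) * Nat.card ↥(fix B : AddSubgroup V) ≤
      (q * Nat.card ↥C) * (q * Nat.card ↥C) := by
    rw [← h3]
    calc _ ≤ Nat.card V * Nat.card ↥C := Nat.mul_le_mul_right _ h4
      _ = _ := by rw [e]; ring
  have eA : Nat.card ↥(fix A : AddSubgroup V) = q * Nat.card ↥C := by
    refine le_antisymm ?_ geA
    exact Nat.le_of_mul_le_mul_right
      ((Nat.mul_le_mul_left _ geB).trans leAB) (Nat.mul_pos hq hCpos)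
  have eB : Nat.card ↥(fix B : AddSubgroup V) = q * Nat.card ↥C := by
    refine le_antisymm ?_ geB
    exact Nat.le_of_mul_le_mul_left
      ((Nat.mul_le_mul_right _ geA).trans leAB) (Nat.mul_pos hq hCpos)
  refine ⟨eA, AddSubgroup.eq_top_of_card_eq _ (Nat.eq_of_mul_eq_mul_right hCpos ?_)⟩
  rw [h3, eA, eB, e]
  ring

/-- Every vector outside `C_V(A)` is fixed by an `A`-conjugate of `B`. -/
theorem cover {v : V} (hv : v ∉ (fix A : AddSubgroup V)) :
    ∃ a ∈ A, v ∈ (fix (cj a B) : AddSubgroup V) := by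
  have hvt : v ∈ (fix A : AddSubgroup V) ⊔ fix B := by
    rw [(S.card_fix hfaith hA hB hAB).2]
    exact AddSubgroup.mem_top v
  obtain ⟨w, hw, u, hu, rfl⟩ := AddSubgroup.mem_sup.1 hvt
  have huA : u ∉ (fix A : AddSubgroup V) := fun h => hv (add_mem hw h)
  set C : AddSubgroup V := fix A ⊓ fix B with hC
  let f : ↥A × ↥C → ↥(fix A : AddSubgroup V) := fun x =>
    ⟨(x.1 : H) • u - u + (x.2 : V), add_mem (S.quad A hA _ x.1.2 u) x.2.2.1⟩
  have hf : Function.Injective f := by
    rintro ⟨a, c⟩ ⟨a', c'⟩ h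
    have h' : (a : H) • u - u + (c : V) = (a' : H) • u - u + (c' : V) := congrArg Subtype.val h
    set d : H := (a' : H)⁻¹ * (a : H) with hd
    have hdm : d ∈ A := A.mul_mem (A.inv_mem a'.2) a.2
    have hcC : (c' : V) - c ∈ C := sub_mem c'.2 c.2
    have e1 : (a : H) • u = (a' : H) • u + ((c' : V) - c) := by
      linear_combination (norm := abel) h'
    have e2 : d • u - u = (c' : V) - c := by
      rw [hd, mul_smul, e1, smul_add, inv_smul_smul, hcC.1 _ (A.inv_mem a'.2)]
      abel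
    have hd1 : d = 1 := by
      by_contra hd1
      exact S.comm_not_mem hfaith hA hB hAB hu huA hdm hd1 (e2 ▸ hcC.2)
    rw [hd1, one_smul, sub_self, eq_comm, sub_eq_zero] at e2
    have ha : a = a' := Subtype.ext (by
      rw [hd, inv_mul_eq_one] at hd1
      exact hd1.symm)
    subst ha
    exact Prod.ext rfl (Subtype.ext e2.symm)
  have hbij : Function.Bijective f := (Nat.bijective_iff_injective_and_card f).2
    ⟨hf, by rw [Nat.card_prod, S.card A hA, (S.card_fix hfaith hA hB hAB).1]⟩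
  obtain ⟨⟨a, c⟩, hac⟩ := hbij.2 ⟨w, hw⟩
  have hw' : (a : H) • u - u + (c : V) = w := congrArg Subtype.val hac
  refine ⟨a, a.2, ?_⟩
  rw [mem_fix_cj, show w + u = (a : H) • (u + (c : V)) by
    rw [smul_add, c.2.1 _ a.2, ← hw']; abel, inv_smul_smul]
  exact add_mem hu c.2.2

theorem lab_cj_ne {a : H} (ha : a ∈ A) : S.lab A ≠ S.lab (cj a B) := by
  intro h
  have := S.lab_conj A hA A hA _ (S.conj_mem A hA B hB a ha) a⁻¹ (A.inv_mem ha) h
  rw [cj_self (A.inv_mem ha), ← cj_mul, inv_mul_cancel, cj_one] at this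
  exact hAB this

theorem lab_cj_inj {a a' : H} (ha : a ∈ A) (ha' : a' ∈ A)
    (h : S.lab (cj a B) = S.lab (cj a' B)) : a = a' := by
  by_contra hne
  have h' := S.lab_conj A hA _ (S.conj_mem A hA B hB a ha) _ (S.conj_mem A hA B hB a' ha')
    a'⁻¹ (A.inv_mem ha') h
  rw [← cj_mul, ← cj_mul, inv_mul_cancel, cj_one] at h'
  exact S.free A hA B hB hAB _ (A.mul_mem (A.inv_mem ha') ha)
    (fun h1 => hne (inv_mul_eq_one.1 h1).symm) h'

/-- `C_V(A) ∩ C_V(B)` does not change under conjugating `B` by `A`. -/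
theorem inf_cj {a : H} (ha : a ∈ A) :
    (fix A : AddSubgroup V) ⊓ fix (cj a B) = (fix A : AddSubgroup V) ⊓ fix B := by
  ext v
  constructor
  · rintro ⟨h1, h2⟩
    have h3 := mem_fix_cj.1 h2
    rw [h1 _ (A.inv_mem ha)] at h3
    exact ⟨h1, h3⟩
  · rintro ⟨h1, h2⟩
    refine ⟨h1, mem_fix_cj.2 ?_⟩
    rw [h1 _ (A.inv_mem ha)]
    exact h2

theorem inf_pair {a a' : H} (ha : a ∈ A) (ha' : a' ∈ A) (hne : a ≠ a') :
    (fix (cj a B) : AddSubgroup V) ⊓ fix (cj a' B) = (fix A : AddSubgroup V) ⊓ fix B := by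
  have hl : S.lab (cj a B) ≠ S.lab (cj a' B) := fun h =>
    hne (S.lab_cj_inj hfaith hA hB hAB ha ha' h)
  have h1 := S.card_eq hfaith (S.conj_mem A hA B hB a ha) (S.conj_mem A hA B hB a' ha') hl
  rw [S.card_eq hfaith hA hB hAB] at h1
  symm
  refine AddSubgroup.eq_of_le_of_card_ge (le_inf ?_ ?_)
    (Nat.eq_of_mul_eq_mul_left (pow_pos (S.q_pos hfaith hA) 2) h1).ge
  · rw [← S.inf_cj hfaith hA hB hAB ha]; exact inf_le_right
  · rw [← S.inf_cj hfaith hA hB hAB ha']; exact inf_le_right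

/-- The fixed space of a nontrivial element. -/
theorem fix_elt {a : H} (ha : a ∈ A) (ha1 : a ≠ 1) {v : V} (hv : a • v = v) :
    v ∈ (fix A : AddSubgroup V) := by
  have hvt : v ∈ (fix A : AddSubgroup V) ⊔ fix B := by
    rw [(S.card_fix hfaith hA hB hAB).2]
    exact AddSubgroup.mem_top v
  obtain ⟨w, hw, u, hu, rfl⟩ := AddSubgroup.mem_sup.1 hvt
  rw [smul_add, hw a ha, add_left_cancel_iff] at hv
  refine add_mem hw ?_
  by_contra huA
  exact S.comm_not_mem hfaith hA hB hAB hu huA ha ha1 (by rw [hv, sub_self]; exact zero_mem _)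

end Pair

/-- `[V, A]` lies in the fixed space of every member labelled like `A` and opposite to `B`. -/
theorem comm_le {A B D : Subgroup H} (hA : A ∈ S.fam) (hB : B ∈ S.fam) (hD : D ∈ S.fam)
    (hAB : S.lab A ≠ S.lab B) (hAD : S.lab A = S.lab D) {a : H} (ha : a ∈ A) (v : V) :
    a • v - v ∈ (fix D : AddSubgroup V) := by
  by_cases hv : v ∈ (fix A : AddSubgroup V)
  · rw [hv a ha, sub_self]
    exact zero_mem _
  by_cases ha1 : a = 1
  · rw [ha1, one_smul, sub_self]
    exact zero_mem _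
  have hno : ∀ E ∈ S.fam, S.lab A ≠ S.lab E → a • v - v ∉ (fix E : AddSubgroup V) := by
    intro E hE hAE hmem
    obtain ⟨e, he, hve⟩ := S.cover hfaith hA hE hAE hv
    have hm : a • v - v ∈ (fix A : AddSubgroup V) ⊓ fix E := ⟨S.quad A hA a ha v, hmem⟩
    rw [← S.inf_cj hfaith hA hE hAE he] at hm
    exact S.comm_not_mem hfaith hA (S.conj_mem A hA E hE e he)
      (S.lab_cj_ne hfaith hA hE hAE he) hve hv ha ha1 hm.2
  have hBD : S.lab B ≠ S.lab D := fun h => hAB (hAD.trans h.symm)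
  obtain ⟨b, hb, hmem⟩ := S.cover hfaith hB hD hBD (hno B hB hAB)
  have hlab : S.lab A = S.lab (cj b D) := by
    by_contra h
    exact hno _ (S.conj_mem B hB D hD b hb) h hmem
  have h1 : S.lab (cj b D) = S.lab (cj 1 D) := by rw [cj_one, ← hlab, hAD]
  rw [S.lab_cj_inj hfaith hB hD hBD hb B.one_mem h1, cj_one] at hmem
  exact hmem

/-- All members opposite to `A` form one orbit under `A`. -/
theorem orbit (hsmall : S.Small) {A B E : Subgroup H} (hA : A ∈ S.fam) (hB : B ∈ S.fam)
    (hE : E ∈ S.fam) (hAB : S.lab A ≠ S.lab B) (hAE : S.lab A ≠ S.lab E) :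
    ∃ a ∈ A, E = cj a B := by
  set C : AddSubgroup V := fix A ⊓ fix B with hC
  have eB := S.card_eq hfaith hA hB hAB
  have hq : 0 < q := S.q_pos hfaith hA
  by_cases hCE : (fix A : AddSubgroup V) ⊓ fix E = C
  · have eE : Nat.card ↥(fix E : AddSubgroup V) = q * Nat.card ↥C := by
      rw [(S.card_fix hfaith hE hA hAE.symm).1, inf_comm, hCE]
    have hnle : ¬ (fix E : AddSubgroup V) ≤ fix A := fun h =>
      S.fix_ne hfaith hA hE hAE (AddSubgroup.eq_of_le_of_card_ge h
        (by rw [eE, (S.card_fix hfaith hA hB hAB).1])).symm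
    have hcov : ∀ v ∈ (fix E : AddSubgroup V), v ∉ (fix A : AddSubgroup V) →
        ∃ a ∈ A, v ∈ (fix (cj a B) : AddSubgroup V) ∧ S.lab E = S.lab (cj a B) := by
      intro v hv hvA
      obtain ⟨a, ha, hva⟩ := S.cover hfaith hA hB hAB hvA
      refine ⟨a, ha, hva, ?_⟩
      by_contra hl
      have h1 := S.card_eq hfaith hE (S.conj_mem A hA B hB a ha) hl
      rw [eB] at h1
      have hle : C ≤ fix E ⊓ fix (cj a B) := le_inf (hCE.symm.le.trans inf_le_right)
        ((S.inf_cj hfaith hA hB hAB ha).symm.le.trans inf_le_right)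
      have h2 := AddSubgroup.eq_of_le_of_card_ge hle
        (Nat.eq_of_mul_eq_mul_left (pow_pos hq 2) h1).ge
      exact hvA ((h2.symm ▸ ⟨hv, hva⟩ : v ∈ C)).1
    obtain ⟨v, hv, hvA⟩ := SetLike.not_le_iff_exists.1 hnle
    obtain ⟨a, ha, -, hlab⟩ := hcov v hv hvA
    refine ⟨a, ha, ?_⟩
    have hle : (fix E : AddSubgroup V) ≤ fix (cj a B) := by
      intro u hu
      by_cases huA : u ∈ (fix A : AddSubgroup V)
      · have h2 : u ∈ C := hCE ▸ ⟨huA, hu⟩
        rw [hC, ← S.inf_cj hfaith hA hB hAB ha] at h2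
        exact h2.2
      · obtain ⟨a', ha', hu', hlab'⟩ := hcov u hu huA
        rw [S.lab_cj_inj hfaith hA hB hAB ha ha' (hlab.symm.trans hlab')]
        exact hu'
    have heq : (fix E : AddSubgroup V) = fix (cj a B) := AddSubgroup.eq_of_le_of_card_ge hle (by
      have h := (S.card_fix hfaith (S.conj_mem A hA B hB a ha) hA
        (S.lab_cj_ne hfaith hA hB hAB ha).symm).1
      rw [inf_comm, S.inf_cj hfaith hA hB hAB ha] at h
      rw [h, eE])
    exact hsmall E hE _ (S.conj_mem A hA B hB a ha) hlab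
      (fun x hx w => heq ▸ S.quad E hE x hx w)
      (fun x hx w => heq.symm ▸ S.quad _ (S.conj_mem A hA B hB a ha) x hx w)
  · exfalso
    -- a conjugate of `E` opposite to `B`
    obtain ⟨a, ha, hl⟩ : ∃ a ∈ A, S.lab (cj a E) ≠ S.lab B := by
      by_cases h1 : S.lab E = S.lab B
      · obtain ⟨a, ha, ha1⟩ : ∃ a ∈ A, a ≠ 1 := by
          by_contra! h
          refine S.noncomm A hA E hE hAE fun a ha b _ => ?_
          rw [h a ha, one_mul, mul_one]
        exact ⟨a, ha, h1 ▸ S.free A hA E hE hAE a ha ha1⟩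
      · exact ⟨1, A.one_mem, by rwa [cj_one]⟩
    have hDm := S.conj_mem A hA E hE a ha
    have hD : (fix A : AddSubgroup V) ⊓ fix (cj a E) ≠ C := by
      rwa [S.inf_cj hfaith hA hE hAE ha]
    -- its conjugate under `B` labelled like `A`
    obtain ⟨v, hv, hvA⟩ := SetLike.not_le_iff_exists.1 (fun h : (fix B : AddSubgroup V) ≤ fix A =>
      S.fix_ne hfaith hA hB hAB (AddSubgroup.eq_of_le_of_card_ge h (by
        rw [(S.card_fix hfaith hA hB hAB).1, (S.card_fix hfaith hB hA hAB.symm).1,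
          inf_comm])).symm)
    obtain ⟨x, hx, hx1⟩ : ∃ x ∈ A, x ≠ 1 := by
      by_contra! h
      refine S.noncomm A hA B hB hAB fun a ha b _ => ?_
      rw [h a ha, one_mul, mul_one]
    obtain ⟨b, hb, hmem⟩ := S.cover hfaith hB hDm hl.symm
      (S.comm_not_mem hfaith hA hB hAB hv hvA hx hx1)
    set A' := cj b (cj a E) with hA'
    have hA'm : A' ∈ S.fam := S.conj_mem B hB _ hDm b hb
    have hlA : S.lab A = S.lab A' := by
      by_contra h
      obtain ⟨e, he, hve⟩ := S.cover hfaith hA hA'm h hvA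
      have hm : x • v - v ∈ (fix A : AddSubgroup V) ⊓ fix A' := ⟨S.quad A hA x hx v, hmem⟩
      rw [← S.inf_cj hfaith hA hA'm h he] at hm
      exact S.comm_not_mem hfaith hA (S.conj_mem A hA A' hA'm e he)
        (S.lab_cj_ne hfaith hA hA'm h he) hve hvA hx hx1 hm.2
    have heq := hsmall A hA A' hA'm hlA
      (fun y hy w => S.comm_le hfaith hA hB hA'm hAB hlA hy w)
      (fun y hy w => S.comm_le hfaith hA'm hB hA
        (hlA ▸ hAB : S.lab A' ≠ S.lab B) hlA.symm hy w)
    refine hD ?_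
    have hDe : cj a E = cj b⁻¹ A := by rw [heq, hA', ← cj_mul, inv_mul_cancel, cj_one]
    rw [hDe, inf_comm, hC, inf_comm (fix A : AddSubgroup V) (fix B)]
    ext u
    constructor
    · rintro ⟨h1, h2⟩
      -- `u` is fixed by `A` and a `B`-conjugate of `A`
      by_contra hu
      have hb1 : b⁻¹ ≠ 1 := fun h => by
        rw [h, cj_one] at hDe
        exact S.lab_cj_ne hfaith hA hE hAE ha (by rw [hDe])
      have h3 := S.inf_pair hfaith hB hA hAB.symm (B.inv_mem hb) B.one_mem hb1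
      rw [cj_one] at h3
      exact hu (h3 ▸ ⟨h1, h2⟩)
    · intro hu
      have h3 := S.inf_cj hfaith hB hA hAB.symm (B.inv_mem hb)
      rw [← h3] at hu
      exact ⟨hu.2, by rw [h3] at hu; exact hu.2⟩

end Sys

end Cfsg.Agent.FFSL2
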