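import Cfsg.Agent.Lib.Thompson.FFSL2.Components
import Cfsg.Agent.Lib.Thompson.FFSL2.Galois

/-!
A Jordan system has no components outside its maximal subfield.
-/

set_option autoImplicit false
set_option linter.unusedSectionVars false
set_option linter.style.haveILetI false

namespace Cfsg.Agent.FFSL2

open Polynomial

/-- An element of a Jordan system cannot interchange two different commuting members. -/
theorem anti_zero {R : Type*} [Ring R] [Finite R] [Nontrivial R] {p : ℕ} [Fact p.Prime]
    (J : JSys R p) {k k' z : R} (hk : k ∈ J.M) (hk' : k' ∈ J.M) (hz : z ∈ J.M)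
    (h1 : z * k = k' * z) (h2 : z * k' = k * z) (hne : k ≠ k') : z = 0 := by
  by_contra hz0
  have hek : k - k' ≠ 0 := sub_ne_zero.2 hne
  by_cases hp : p = 2
  · obtain ⟨i, hi⟩ := J.exists_sq_of_two hp hz
    have hc : Commute (z * z) k := by
      show z * z * k = k * (z * z)
      rw [mul_assoc, h1, ← mul_assoc, h2, mul_assoc]
    have hzk : Commute z k := by
      rw [hi, ← (Commute.refl z).mul_pow]
      exact hc.pow_left i
    have h3 : (k - k') * z = 0 := by rw [sub_mul, ← hzk.eq, h1, sub_self]
    exact hz0 (J.eq_zero_of_mul (sub_mem hk hk') hek h3)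
  · obtain ⟨e, he⟩ : ∃ e : R, e = k - k' := ⟨_, rfl⟩
    rw [← he] at hek
    have hem : e ∈ J.M := he ▸ sub_mem hk hk'
    have hze : z * e = -(e * z) := by rw [he, mul_sub, sub_mul, h1, h2, neg_sub]
    have hcz : z * (e * e) = e * e * z := by
      rw [← mul_assoc, hze, neg_mul, mul_assoc, hze, mul_neg, neg_neg, mul_assoc]
    have hce : e * (z * z) = z * z * e := by
      rw [mul_assoc z z e, hze, mul_neg, ← mul_assoc z e z, hze, neg_mul, neg_neg, mul_assoc]
    set S : Set R := {e * e, z * z} with hS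
    have hG : J.Good (Subring.closure S) := by
      refine J.good_closure (Set.insert_subset (J.sq_mem hem)
        (Set.singleton_subset_iff.2 (J.sq_mem hz))) ?_
      have : e * e * (z * z) = z * z * (e * e) := by
        rw [mul_assoc, hce, ← mul_assoc, hce, mul_assoc]
      intro a ha b hb
      simp only [hS, Set.mem_insert_iff, Set.mem_singleton_iff] at ha hb
      rcases ha with rfl | rfl <;> rcases hb with rfl | rfl
      exacts [rfl, this, this.symm, rfl]
    have hcent : ∀ q ∈ Subring.closure S, z * q = q * z ∧ e * q = q * e := by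
      intro q hq
      have : Subring.closure S ≤ Subring.centralizer {z, e} := by
        refine Subring.closure_le.2 ?_
        intro a ha
        simp only [hS, Set.mem_insert_iff, Set.mem_singleton_iff] at ha
        refine Subring.mem_centralizer_iff.2 fun b hb => ?_
        simp only [Set.mem_insert_iff, Set.mem_singleton_iff] at hb
        rcases ha with rfl | rfl <;> rcases hb with rfl | rfl
        exacts [hcz, (mul_assoc _ _ _).symm, (mul_assoc _ _ _).symm, hce]
      have h := Subring.mem_centralizer_iff.1 (this hq)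
      exact ⟨h z (by simp), h e (by simp)⟩
    letI : Field ↥(Subring.closure S) := hG.field
    haveI : Fintype ↥(Subring.closure S) := Fintype.ofFinite _
    have h2ne : (2 : ↥(Subring.closure S)) ≠ 0 := by
      intro h
      have h' : (1 : R) + 1 = 0 := by
        have h'' : ((1 + 1 : ↥(Subring.closure S)) : R) = 0 := by
          rw [one_add_one_eq_two, h]; rfl
        simpa using h''
      exact one_ne_zero (J.two_cancel hp h')
    have hodd : Fintype.card ↥(Subring.closure S) % 2 = 1 :=
      FiniteField.odd_card_of_char_ne_two fun h => by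
        haveI := ringChar.of_eq h
        exact h2ne (CharP.cast_eq_zero (↥(Subring.closure S)) 2)
    set d : ↥(Subring.closure S) := ⟨e * e, Subring.subset_closure (by simp [hS])⟩ with hd
    set s : ↥(Subring.closure S) := ⟨z * z, Subring.subset_closure (by simp [hS])⟩ with hs
    have hd0 : d ≠ 0 := fun h =>
      hek (J.eq_zero_of_mul hem hek (congrArg Subtype.val h))
    have hdeg2 : (C (-d) * X ^ 2 : (↥(Subring.closure S))[X]).degree = 2 :=
      degree_C_mul_X_pow 2 (neg_ne_zero.2 hd0)
    have hgdeg : (C (-d) * X ^ 2 - C s : (↥(Subring.closure S))[X]).degree = 2 := by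
      rw [degree_sub_eq_left_of_degree_lt, hdeg2]
      rw [hdeg2]
      exact lt_of_le_of_lt degree_C_le (by norm_num)
    obtain ⟨a, b, hab⟩ := FiniteField.exists_root_sum_quadratic
      (f := (X : (↥(Subring.closure S))[X]) ^ 2) (g := C (-d) * X ^ 2 - C s)
      (by rw [degree_X_pow]; rfl)
      hgdeg hodd
    simp only [eval_pow, eval_X, eval_sub, eval_mul, eval_C] at hab
    have habR : (a : R) * a - (b : R) * b * (e * e) - z * z = 0 := by
      have h := congrArg Subtype.val (show a * a - b * b * d - s = 0 by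
        rw [← hab]; ring)
      simpa [hd, hs] using h
    set w : R := (b : R) * e with hw
    have hwM : w ∈ J.M := J.mul_mem (hG.1 _ b.2) hem (hcent _ b.2).2.symm
    have hzw : z * w = -(w * z) := by
      rw [hw, ← mul_assoc, (hcent _ b.2).1, mul_assoc, hze, mul_neg, ← mul_assoc]
    have haw : (a : R) * w = w * a := by
      rw [hw, ← mul_assoc, hG.2 _ a.2 _ b.2, mul_assoc, ← (hcent _ a.2).2, mul_assoc]
    have hww : w * w = (b : R) * b * (e * e) := by
      rw [hw, mul_assoc, ← mul_assoc e, (hcent _ b.2).2, mul_assoc (b : R) e e, ← mul_assoc]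
    have hprod : ((a : R) - w - z) * ((a : R) + w + z) = 0 := by
      calc ((a : R) - w - z) * ((a : R) + w + z)
          = ((a : R) * a - w * w - z * z) + ((a : R) * w - w * a) + ((a : R) * z - z * a)
            - (w * z + z * w) := by noncomm_ring
        _ = _ := by rw [haw, (hcent _ a.2).1, hzw, hww, habR]; abel
    have hfin : ∀ q : R, q * e = e * q → z = q → False := by
      intro q hq hzq
      have h3 : e * z + e * z = 0 := by
        have h4 : z * e = e * z := by rw [hzq, hq]
        rw [hze] at h4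
        rw [← neg_eq_iff_add_eq_zero]
        exact h4
      exact hz0 (J.eq_zero_of_mul hem hek (J.two_cancel hp h3))
    have hwe : w * e = e * w := by rw [hw, ← mul_assoc, (hcent _ b.2).2]
    by_cases hl : (a : R) - w - z = 0
    · exact hfin ((a : R) - w) (by rw [sub_mul, mul_sub, ← (hcent _ a.2).2, hwe])
        (sub_eq_zero.1 hl).symm
    · have h0 := J.eq_zero_of_mul (sub_mem (sub_mem (hG.1 _ a.2) hwM) hz) hl hprod
      exact hfin (-((a : R) + w))
        (by rw [neg_mul, mul_neg, add_mul, mul_add, ← (hcent _ a.2).2, hwe])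
        (eq_neg_of_add_eq_zero_right h0)

section Comp

variable {R : Type*} [Ring R] {E : Type*} [Field E] (ι : E →+* R)

theorem IsComp.smul {σ : RingAut E} {w : R} (h : IsComp ι σ w) (g : E) :
    IsComp ι σ (ι g * w) := fun f => by
  rw [mul_assoc, h, ← mul_assoc, ← map_mul, mul_comm, map_mul, mul_assoc]

theorem IsComp.mul {σ τ : RingAut E} {a b : R} (ha : IsComp ι σ a) (hb : IsComp ι τ b) :
    IsComp ι (σ * τ) (a * b) := fun f => by
  rw [mul_assoc, hb, ← mul_assoc, ha, mul_assoc]
  rfl

theorem IsComp.powAut {σ : RingAut E} {w : R} (h : IsComp ι σ w) :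
    ∀ k : ℕ, IsComp ι (σ ^ k) (w ^ k)
  | 0 => fun f => by
    rw [pow_zero, pow_zero, one_mul, mul_one]
    rfl
  | k + 1 => by
    rw [pow_succ, pow_succ]
    exact (IsComp.powAut h k).mul ι h

theorem symm_eq_inv (σ : RingAut E) : (σ.symm : RingAut E) = σ⁻¹ := rfl

/-- Two components with different automorphisms cannot sum to a scalar. -/
theorem comp_eq_zero_of_sum {σ : RingAut E} (h1 : σ ≠ 1) (h2 : σ ≠ σ.symm) {z₁ z₂ : R}
    (c₁ : IsComp ι σ z₁) (c₂ : IsComp ι σ.symm z₂) {f : E} (h : z₁ + z₂ = ι f) : z₁ = 0 := by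
  obtain ⟨a, ha⟩ : ∃ a, σ a ≠ a := by
    by_contra! hh
    exact h1 (RingEquiv.ext hh)
  obtain ⟨b, hb⟩ : ∃ b, σ b ≠ σ.symm b := by
    by_contra! hh
    exact h2 (RingEquiv.ext hh)
  have e0 : ι (σ a - a) * z₁ + ι (σ.symm a - a) * z₂ = 0 := by
    have h3 : (z₁ + z₂) * ι a = ι a * (z₁ + z₂) := by
      rw [h, ← map_mul, ← map_mul, mul_comm]
    rw [add_mul, c₁, c₂, mul_add] at h3
    rw [map_sub, map_sub, sub_mul, sub_mul]
    calc _ = ι (σ a) * z₁ + ι (σ.symm a) * z₂ - (ι a * z₁ + ι a * z₂) := by abel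
      _ = 0 := by rw [h3, sub_self]
  have e1 : ι ((σ b - σ.symm b) * (σ a - a)) * z₁ = 0 := by
    have h3 : (ι (σ a - a) * z₁ + ι (σ.symm a - a) * z₂) * ι b
        - ι (σ.symm b) * (ι (σ a - a) * z₁ + ι (σ.symm a - a) * z₂) = 0 := by
      rw [e0]; simp
    rw [add_mul, mul_assoc, c₁, mul_assoc (ι (σ.symm a - a)), c₂] at h3
    simp only [mul_add, ← mul_assoc, ← map_mul] at h3
    rw [← h3, mul_comm (σ.symm a - a), mul_comm (σ a - a) (σ b)]
    rw [sub_mul, map_sub, sub_mul]
    abel
  exact eq_zero_of_left_zero ι e1 (mul_ne_zero (sub_ne_zero.2 hb) (sub_ne_zero.2 ha))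
where
  eq_zero_of_left_zero {R : Type _} [Ring R] {E : Type _} [Field E] (ι : E →+* R) {w : R} {g : E}
      (h : ι g * w = 0) (hg : g ≠ 0) : w = 0 := by
    rw [← one_mul w, ← map_one ι, ← inv_mul_cancel₀ hg, map_mul, mul_assoc, h, mul_zero]

end Comp

section Odd

variable {E : Type*} [Field E]

theorem fixed_of_sq_fixed {σ : RingAut E} {m : ℕ} (hn : orderOf σ = 2 * m + 1) {f : E}
    (h : σ (σ f) = f) : σ f = f := by
  have hk : ∀ k : ℕ, ((σ ^ 2) ^ k : RingAut E) f = f := by
    intro k
    induction k with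
    | zero => rfl
    | succ k ih =>
      rw [pow_succ]
      show ((σ ^ 2) ^ k : RingAut E) ((σ ^ 2 : RingAut E) f) = f
      rw [show (σ ^ 2 : RingAut E) f = σ (σ f) by rw [sq]; rfl, h, ih]
  have : (σ ^ 2) ^ (m + 1) = σ := by
    rw [← pow_mul, show 2 * (m + 1) = orderOf σ + 1 by omega, pow_succ, pow_orderOf_eq_one, one_mul]
  conv_lhs => rw [← this]
  exact hk _

variable [Fintype E]

theorem isSquare_mul_aut (σ : RingAut E) (f : E) : IsSquare (f * σ f) := by
  by_cases h2 : ringChar E = 2
  · exact FiniteField.isSquare_of_char_two h2 _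
  by_cases hf : f = 0
  · simp [hf]
  have hne : f * σ f ≠ 0 := mul_ne_zero hf (by simpa using hf)
  rw [FiniteField.isSquare_iff h2 hne, mul_pow, ← map_pow]
  rcases FiniteField.pow_dichotomy h2 hf with h | h <;> rw [h] <;> simp

theorem exists_sq_mul_fixed (σ : RingAut E) {m : ℕ} (hn : orderOf σ = 2 * m + 1) (a : E) :
    ∃ g : E, g ≠ 0 ∧ σ (g * g * a) = g * g * a := by
  by_cases ha : a = 0
  · exact ⟨1, one_ne_zero, by simp [ha]⟩
  have hsq : ∀ j : ℕ, IsSquare (∏ i ∈ Finset.range (2 * j), (σ ^ (i + 1) : RingAut E) a) := by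
    intro j
    induction j with
    | zero => exact ⟨1, by simp⟩
    | succ j ih =>
      rw [show 2 * (j + 1) = 2 * j + 1 + 1 by omega, Finset.prod_range_succ, Finset.prod_range_succ,
        mul_assoc]
      refine ih.mul ?_
      rw [aut_pow_apply_succ σ (2 * j + 1)]
      exact isSquare_mul_aut σ _
  obtain ⟨g, hg⟩ := hsq m
  have hN : autNorm σ a = g * g * a := by
    rw [autNorm, hn, Finset.prod_range_succ', hg, pow_zero]
    rfl
  refine ⟨g, ?_, by rw [← hN, aut_autNorm]⟩
  rintro rfl
  rw [mul_zero, Finset.prod_eq_zero_iff] at hg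
  obtain ⟨i, -, hi⟩ := hg
  exact ha ((map_eq_zero_iff _ (σ ^ (i + 1) : RingAut E).injective).1 hi)

end Odd

end Cfsg.Agent.FFSL2
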